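import Mathlib
import Cfsg.Prelude.Def_Transfer

/-! Counting conjugacy classes of `p`-elements and `π`-elements. -/

namespace Cfsg.Agent.H73

variable {G : Type*} [Group G]

/-- Number of classes of `p`-elements. -/
noncomputable def kP (p : ℕ) (G : Type*) [Group G] : ℕ :=
  Nat.card {c : ConjClasses G // ∀ x ∈ c.carrier, ∃ k : ℕ, orderOf x = p ^ k}

/-- Number of classes of `π`-elements. -/
noncomputable def kPi (π : Finset ℕ) (G : Type*) [Group G] : ℕ :=
  Nat.card {c : ConjClasses G // ∀ x ∈ c.carrier, ∀ r : ℕ, r.Prime → r ∣ orderOf x → r ∈ π}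

theorem weight_bound {α β : Type*} [Finite α] (f : α → β) (s : Set β) (hs : s ⊆ Set.range f)
    (S : Set α) (m : ℕ) (h : ∀ a ∉ S, m ≤ Nat.card {a' // f a' = f a}) :
    m * Nat.card s ≤ Nat.card α + (m - 1) * Nat.card S := by
  classical
  haveI := Fintype.ofFinite α
  have hfin : s.Finite := (Set.finite_range f).subset hs
  set t := hfin.toFinset with ht
  have key : ∀ b ∈ t, m ≤ (Finset.univ.filter (fun a => f a = b)).card +
      (m - 1) * ((Finset.univ.filter (fun a => a ∈ S)).filter (fun a => f a = b)).card := by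
    intro b hb
    obtain ⟨a, rfl⟩ := hs (hfin.mem_toFinset.1 hb)
    by_cases hS : ((Finset.univ.filter (fun a => a ∈ S)).filter (fun a' => f a' = f a)).Nonempty
    · have h1 : 1 ≤ (Finset.univ.filter (fun a' => f a' = f a)).card :=
        Finset.card_pos.2 ⟨a, by simp⟩
      have h2 := hS.card_pos
      have : (m - 1) * 1 ≤ (m - 1) *
          ((Finset.univ.filter (fun a => a ∈ S)).filter (fun a' => f a' = f a)).card :=
        Nat.mul_le_mul_left _ h2
      omega
    · have ha : a ∉ S := fun hc => hS ⟨a, by simp [hc]⟩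
      have := h a ha
      rw [Nat.card_eq_fintype_card, Fintype.card_subtype] at this
      omega
  have h3 := Finset.sum_le_sum key
  rw [Finset.sum_const, smul_eq_mul, Finset.sum_add_distrib, ← Finset.mul_sum] at h3
  have h4 : ∀ u : Finset α, ∑ b ∈ t, (u.filter (fun a => f a = b)).card ≤ u.card := by
    intro u
    have hd : (t : Set _).PairwiseDisjoint (fun b => u.filter (fun a => f a = b)) :=
      fun b _ c _ hne => Finset.disjoint_filter.2 fun a _ h1 h2 => hne (h1.symm.trans h2)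
    rw [← Finset.card_biUnion hd]
    exact Finset.card_le_card (Finset.biUnion_subset.2 fun b _ => Finset.filter_subset _ _)
  have h5 := h4 Finset.univ
  have h6 := h4 (Finset.univ.filter (fun a => a ∈ S))
  have h7 : t.card = Nat.card s := by rw [ht, Nat.card_eq_card_finite_toFinset hfin]
  have h8 : (Finset.univ.filter (fun a => a ∈ S)).card = Nat.card S := by
    rw [Nat.card_eq_fintype_card, ← Fintype.card_subtype]
  have h9 : (Finset.univ : Finset α).card = Nat.card α := by simp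
  rw [h7] at h3
  calc m * Nat.card s = Nat.card s * m := Nat.mul_comm _ _
    _ ≤ _ := h3
    _ ≤ Nat.card α + (m - 1) * Nat.card S := by
      rw [← h9, ← h8]; exact Nat.add_le_add h5 (Nat.mul_le_mul_left _ h6)

theorem orderOf_conj_eq (g x : G) : orderOf (g * x * g⁻¹) = orderOf x :=
  MulEquiv.orderOf_eq (MulAut.conj g) x

theorem forall_carrier_mk {P : G → Prop} (hP : ∀ g x, P x → P (g * x * g⁻¹)) {x : G} :
    (∀ y ∈ (ConjClasses.mk x).carrier, P y) ↔ P x := by
  refine ⟨fun h => h x (by rw [ConjClasses.mem_carrier_iff_mk_eq]), fun h y hy => ?_⟩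
  rw [ConjClasses.mem_carrier_iff_mk_eq, ConjClasses.mk_eq_mk_iff_isConj] at hy
  obtain ⟨g, hg⟩ := isConj_iff.1 hy.symm
  exact hg ▸ hP g x h

theorem card_mul_le_of_lt {p : ℕ} [Fact p.Prime] [Finite G] {H K : Subgroup G}
    (hK : IsPGroup p K) (hlt : H < K) : p * Nat.card H ≤ Nat.card K := by
  have h1 : H.relIndex K * Nat.card H = Nat.card K := by
    have h := (H.subgroupOf K).index_mul_card
    rwa [Nat.card_congr (Subgroup.subgroupOfEquivOfLe hlt.le).toEquiv] at h
  obtain ⟨n, hn⟩ := hK.index (H.subgroupOf K)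
  have hne : H.relIndex K ≠ 1 := fun h => hlt.not_ge (Subgroup.relIndex_eq_one.1 h)
  have : p ≤ H.relIndex K := by
    rw [Subgroup.relIndex] at hne ⊢
    rw [hn] at hne ⊢
    refine Nat.le_self_pow ?_ p
    intro h; simp [h] at hne
  rw [← h1]; exact Nat.mul_le_mul_right _ this

open Pointwise in
theorem exists_conj_mem_sylow {p : ℕ} [Fact p.Prime] [Finite G] (P : Sylow p G) {x : G}
    (hx : ∃ k : ℕ, orderOf x = p ^ k) : ∃ g : G, g * x * g⁻¹ ∈ (P : Subgroup G) := by
  obtain ⟨k, hk⟩ := hx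
  have : IsPGroup p (Subgroup.zpowers x) := IsPGroup.of_card ((Nat.card_zpowers x).trans hk)
  obtain ⟨Q, hQ⟩ := this.exists_le_sylow
  obtain ⟨g, hg⟩ := MulAction.exists_smul_eq G Q P
  refine ⟨g, ?_⟩
  have h2 : MulAut.conj g x ∈ MulAut.conj g • (Q : Subgroup G) :=
    Subgroup.smul_mem_pointwise_smul _ _ _ (hQ (Subgroup.mem_zpowers x))
  rw [← hg]
  simpa [Sylow.coe_subgroup_smul] using h2

/-- Classes of `p`-elements are covered by a Sylow subgroup. -/
theorem kP_le_mul {p : ℕ} [Fact p.Prime] [Finite G] (P : Sylow p G) (S : Set (P : Subgroup G)) (m : ℕ)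
    (h : ∀ a ∉ S, m ≤ Nat.card {b : (P : Subgroup G) // ConjClasses.mk (b : G) = ConjClasses.mk (a : G)}) :
    m * kP p G ≤ Nat.card (P : Subgroup G) + (m - 1) * Nat.card S := by
  refine weight_bound (fun b : (P : Subgroup G) => ConjClasses.mk (b : G))
    {c : ConjClasses G | ∀ x ∈ c.carrier, ∃ k : ℕ, orderOf x = p ^ k} ?_ S m h
  intro c hc
  obtain ⟨x, rfl⟩ := ConjClasses.exists_rep c
  obtain ⟨g, hg⟩ := exists_conj_mem_sylow P (hc x (by rw [ConjClasses.mem_carrier_iff_mk_eq]))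
  exact ⟨⟨_, hg⟩, ConjClasses.mk_eq_mk_iff_isConj.2 (isConj_iff.2 ⟨g⁻¹, by group⟩)⟩

theorem kP_le_card {p : ℕ} [Fact p.Prime] [Finite G] (P : Sylow p G) :
    kP p G ≤ Nat.card (P : Subgroup G) := by
  simpa using kP_le_mul P ∅ 1 (fun a _ => Nat.one_le_iff_ne_zero.2 (by
    haveI : Nonempty {b : (P : Subgroup G) // ConjClasses.mk (b : G) = ConjClasses.mk (a : G)} := ⟨⟨a, rfl⟩⟩
    exact Nat.card_pos.ne'))

theorem kP_le_conjClasses {p : ℕ} [Fact p.Prime] [Finite G] (P : Sylow p G) :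
    kP p G ≤ Nat.card (ConjClasses (P : Subgroup G)) := by
  let f : ConjClasses (P : Subgroup G) → ConjClasses G := ConjClasses.map (P : Subgroup G).subtype
  have hs : {c : ConjClasses G | ∀ x ∈ c.carrier, ∃ k : ℕ, orderOf x = p ^ k} ⊆ Set.range f := by
    intro c hc
    obtain ⟨x, rfl⟩ := ConjClasses.exists_rep c
    obtain ⟨g, hg⟩ := exists_conj_mem_sylow P (hc x (by rw [ConjClasses.mem_carrier_iff_mk_eq]))
    exact ⟨ConjClasses.mk ⟨_, hg⟩, ConjClasses.mk_eq_mk_iff_isConj.2 (isConj_iff.2 ⟨g⁻¹, by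
      show g⁻¹ * (g * x * g⁻¹) * g⁻¹⁻¹ = x
      group⟩)⟩
  exact (Nat.card_mono (Set.finite_range f) hs).trans (Finite.card_range_le f)

theorem commute_of_pow_coprime {g y : G} {n : ℕ} (h : n.Coprime (orderOf g))
    (hc : Commute (g ^ n) y) : Commute g y := by
  obtain ⟨m, hm⟩ := exists_pow_eq_self_of_coprime h
  rw [← hm]; exact hc.pow_left m

/-- An element normalizing a Sylow subgroup, with all prime divisors of its order at least `m`, fixing
only the subgroup `F`. -/
theorem kP_le_of_normalizing {p : ℕ} [Fact p.Prime] [Finite G] (P : Sylow p G) (g : G)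
    (hg : g ∈ Subgroup.normalizer ((P : Subgroup G) : Set G)) (m : ℕ)
    (hm : ∀ d, 0 < d → d < m → d.Coprime (orderOf g)) :
    m * kP p G ≤ Nat.card (P : Subgroup G) +
      (m - 1) * Nat.card ↥((P : Subgroup G) ⊓ Subgroup.centralizer {g}) := by
  have hmem : ∀ (i : ℕ) (a : (P : Subgroup G)), g ^ i * (a : G) * (g ^ i)⁻¹ ∈ (P : Subgroup G) :=
    fun i a => (Subgroup.mem_normalizer_iff.1 (pow_mem hg i) a).1 a.2
  let S : Set (P : Subgroup G) := {a | g * (a : G) = (a : G) * g}
  have hS : Nat.card S = Nat.card ↥((P : Subgroup G) ⊓ Subgroup.centralizer {g}) :=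
    Nat.card_congr
      { toFun := fun a => ⟨a.1.1, a.1.2,
          Subgroup.mem_centralizer_singleton_iff.2 a.2.symm⟩
        invFun := fun a => ⟨⟨a.1, a.2.1⟩, by
          show g * a.1 = a.1 * g
          exact (Subgroup.mem_centralizer_singleton_iff.1 a.2.2).symm⟩
        left_inv := fun _ => rfl
        right_inv := fun _ => rfl }
  rw [← hS]
  refine kP_le_mul P S m fun a ha => ?_
  let j : Fin m → {b : (P : Subgroup G) // ConjClasses.mk (b : G) = ConjClasses.mk (a : G)} := fun i =>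
    ⟨⟨_, hmem i a⟩, (ConjClasses.mk_eq_mk_iff_isConj.2 (isConj_iff.2 ⟨g ^ (i : ℕ), rfl⟩)).symm⟩
  have key : ∀ i k : Fin m, (i : ℕ) < k → j i ≠ j k := by
    intro i k hik h
    apply ha
    have h' : g ^ (i : ℕ) * (a : G) * (g ^ (i : ℕ))⁻¹ = g ^ (k : ℕ) * (a : G) * (g ^ (k : ℕ))⁻¹ :=
      congrArg (fun b => (b.1 : G)) h
    have hk : g ^ (k : ℕ) = g ^ (i : ℕ) * g ^ ((k : ℕ) - i) := by
      rw [← pow_add]; congr 1; omega
    rw [hk, mul_inv_rev] at h'
    have h'' : (a : G) = g ^ ((k : ℕ) - i) * a * (g ^ ((k : ℕ) - i))⁻¹ := by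
      simp only [mul_assoc] at h' ⊢
      have := mul_left_cancel h'
      simpa [← mul_assoc] using this
    have hc : Commute (g ^ ((k : ℕ) - i)) (a : G) := (eq_mul_inv_iff_mul_eq.1 h'').symm
    exact commute_of_pow_coprime (hm _ (by omega) (by have := k.2; omega)) hc
  have hinj : Function.Injective j := by
    intro i k h
    rcases lt_trichotomy (i : ℕ) (k : ℕ) with hl | hl | hl
    · exact absurd h (key i k hl)
    · exact Fin.ext hl
    · exact absurd h.symm (key k i hl)
  simpa using Nat.card_le_card_of_injective j hinj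

theorem card_conjClasses_le {p : ℕ} [Fact p.Prime] [Finite G] (hG : IsPGroup p G) :
    p * Nat.card (ConjClasses G) ≤ Nat.card G + (p - 1) * Nat.card (Subgroup.center G) := by
  have := weight_bound (ConjClasses.mk (α := G)) Set.univ
    (fun c _ => ConjClasses.exists_rep c) (Subgroup.center G : Set G) p ?_
  · simpa using this
  intro a ha
  have hge : p ≤ Nat.card (MulAction.orbit (ConjAct G) a) := by
    obtain ⟨n, hn⟩ := IsPGroup.card_orbit (G := ConjAct G) (p := p) (hG.of_equiv ConjAct.toConjAct) a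
    rw [hn]
    refine Nat.le_self_pow ?_ p
    intro h0
    rw [h0, pow_zero, Nat.card_eq_one_iff_unique] at hn
    apply ha
    rw [SetLike.mem_coe, Subgroup.mem_center_iff]
    intro g
    have hx : ConjAct.toConjAct g • a ∈ MulAction.orbit (ConjAct G) a := MulAction.mem_orbit a _
    have hh := congrArg Subtype.val (hn.1.elim ⟨_, hx⟩ ⟨a, MulAction.mem_orbit_self a⟩)
    change ConjAct.toConjAct g • a = a at hh
    rw [ConjAct.toConjAct_smul] at hh
    exact (eq_mul_inv_iff_mul_eq.1 hh.symm).symm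
  refine hge.trans (le_of_eq (Nat.card_congr (Equiv.subtypeEquivRight fun b => ?_)))
  rw [ConjAct.mem_orbit_conjAct, ConjClasses.mk_eq_mk_iff_isConj]

theorem mul_card_center_le {p : ℕ} [Fact p.Prime] [Finite G] (hG : IsPGroup p G)
    (hna : ¬ IsMulCommutative G) : p * p * Nat.card (Subgroup.center G) ≤ Nat.card G := by
  obtain ⟨n, hn⟩ := hG.index (Subgroup.center G)
  have h2 : 2 ≤ n := by
    by_contra hlt
    apply hna
    have hcyc : IsCyclic (G ⧸ Subgroup.center G) := by
      have hn1 : n = 0 ∨ n = 1 := by omega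
      rcases hn1 with rfl | rfl
      · haveI : Subsingleton (G ⧸ Subgroup.center G) :=
          (Nat.card_eq_one_iff_unique.1 (by rw [← Subgroup.index, hn, pow_zero])).1
        infer_instance
      · exact isCyclic_of_prime_card (p := p) (by rw [← Subgroup.index, hn, pow_one])
    exact ⟨⟨fun a b => commutative_of_cyclic_center_quotient (QuotientGroup.mk' (Subgroup.center G))
      (by rw [QuotientGroup.ker_mk']) a b⟩⟩
  rw [← (Subgroup.center G).index_mul_card, hn]
  refine Nat.mul_le_mul_right _ ?_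
  calc p * p = p ^ 2 := (pow_two p).symm
    _ ≤ p ^ n := Nat.pow_le_pow_right (Fact.out : p.Prime).pos h2

theorem kP_le_of_not_comm {p : ℕ} [Fact p.Prime] [Finite G] (P : Sylow p G)
    (hna : ¬ IsMulCommutative (P : Subgroup G)) :
    p * p * p * kP p G ≤ (p * p + (p - 1)) * Nat.card (P : Subgroup G) := by
  have h1 := card_conjClasses_le P.isPGroup'
  have h2 := mul_card_center_le P.isPGroup' hna
  have h3 := kP_le_conjClasses P
  calc p * p * p * kP p G
      ≤ p * p * (p * Nat.card (ConjClasses (P : Subgroup G))) := by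
        rw [Nat.mul_assoc (p * p)]; exact Nat.mul_le_mul_left _ (Nat.mul_le_mul_left _ h3)
    _ ≤ p * p * (Nat.card (P : Subgroup G) + (p - 1) * Nat.card (Subgroup.center (P : Subgroup G))) :=
        Nat.mul_le_mul_left _ h1
    _ = p * p * Nat.card (P : Subgroup G) +
        (p - 1) * (p * p * Nat.card (Subgroup.center (P : Subgroup G))) := by ring
    _ ≤ p * p * Nat.card (P : Subgroup G) + (p - 1) * Nat.card (P : Subgroup G) :=
        Nat.add_le_add_left (Nat.mul_le_mul_left _ h2) _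
    _ = _ := by ring

/-- For a Sylow subgroup with commutative structure, a `p'`-element of the normalizer which moves
something. -/
theorem exists_pPrime_moving {p : ℕ} [Fact p.Prime] [Finite G] (P : Sylow p G)
    (hab : IsMulCommutative (P : Subgroup G)) (D : Subgroup G)
    (hD : D ≤ Subgroup.normalizer ((P : Subgroup G) : Set G))
    (hmove : ¬ D ≤ Subgroup.centralizer ((P : Subgroup G) : Set G)) :
    ∃ g ∈ D, ¬ p ∣ orderOf g ∧ ∃ y ∈ (P : Subgroup G), g * y ≠ y * g := by
  obtain ⟨g, hgD, hg⟩ := SetLike.not_le_iff_exists.1 hmove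
  obtain ⟨y, hy, hgy⟩ : ∃ y ∈ (P : Subgroup G), y * g ≠ g * y := by
    by_contra h; push Not at h; exact hg (Subgroup.mem_centralizer_iff.2 h)
  have hp : p.Prime := Fact.out
  have hn0 : orderOf g ≠ 0 := (orderOf_pos g).ne'
  set a := (orderOf g).factorization p with ha
  set m := orderOf g / p ^ a with hm
  have hdiv : p ^ a ∣ orderOf g := Nat.ordProj_dvd _ _
  have hnm : p ^ a * m = orderOf g := Nat.mul_div_cancel' hdiv
  have hpm : ¬ p ∣ m := Nat.not_dvd_ordCompl hp hn0
  refine ⟨g ^ (p ^ a), pow_mem hgD _, ?_, y, hy, ?_⟩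
  · rw [orderOf_pow_of_dvd (pow_ne_zero _ hp.ne_zero) hdiv]; exact hpm
  · intro hc
    have h1 : (g ^ m) ∈ (P : Subgroup G) := by
      have hpgm : IsPGroup p (Subgroup.zpowers (g ^ m)) := by
        refine IsPGroup.of_card_dvd_pow (n := a) ?_
        rw [Nat.card_zpowers]
        apply orderOf_dvd_of_pow_eq_one
        rw [← pow_mul, Nat.mul_comm, hnm, pow_orderOf_eq_one]
      have hle : Subgroup.zpowers (g ^ m) ≤ Subgroup.normalizer ((P : Subgroup G) : Set G) := by
        rw [Subgroup.zpowers_le]; exact pow_mem (hD hgD) _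
      have h2 : IsPGroup p ↥(Subgroup.zpowers (g ^ m) ⊔ (P : Subgroup G)) :=
        IsPGroup.to_sup_of_normal_right' hpgm P.isPGroup' hle
      have h3 := P.is_maximal' h2 le_sup_right
      rw [← h3]; exact Subgroup.mem_sup_left (Subgroup.mem_zpowers _)
    have hc1 : Commute (g ^ m) y :=
      congrArg Subtype.val (hab.is_comm.comm (⟨_, h1⟩ : (P : Subgroup G)) ⟨y, hy⟩)
    have hc2 : Commute (g ^ (p ^ a)) y := hc
    have hcop : (p ^ a).Coprime m := Nat.Coprime.pow_left _ (hp.coprime_iff_not_dvd.2 hpm)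
    have hb := Nat.gcd_eq_gcd_ab (p ^ a) m
    rw [hcop] at hb
    have : Commute g y := by
      have e : g = (g ^ (p ^ a)) ^ Nat.gcdA (p ^ a) m * (g ^ m) ^ Nat.gcdB (p ^ a) m := by
        rw [← zpow_natCast g (p ^ a), ← zpow_natCast g m, ← zpow_mul, ← zpow_mul, ← zpow_add, ← hb,
          Nat.cast_one, zpow_one]
      rw [e]
      exact (hc2.zpow_left _).mul_left (hc1.zpow_left _)
    exact hgy this.symm

/-- The basic criterion. -/
theorem comm_and_le_centralizer {p : ℕ} [Fact p.Prime] [Finite G] (hp : p ≠ 2) (P : Sylow p G)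
    (h : (p + 1) * Nat.card (P : Subgroup G) < 2 * p * kP p G) :
    IsMulCommutative (P : Subgroup G) ∧
      Subgroup.normalizer ((P : Subgroup G) : Set G) ≤ Subgroup.centralizer ((P : Subgroup G) : Set G) := by
  have hp3 : 3 ≤ p := by have := (Fact.out : p.Prime).two_le; omega
  have hcomm : IsMulCommutative (P : Subgroup G) := by
    by_contra hna
    have h1 := kP_le_of_not_comm P hna
    have h2 : p * p * ((p + 1) * Nat.card (P : Subgroup G)) < p * p * (2 * p * kP p G) :=
      Nat.mul_lt_mul_of_pos_left h (by positivity)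
    have e : p * p * (2 * p * kP p G) = 2 * (p * p * p * kP p G) := by ring
    have h3 : 2 * (p * p + (p - 1)) ≤ p * p * (p + 1) := by
      have : 3 * (p * p) ≤ p * p * p := by nlinarith
      have : p ≤ p * p := Nat.le_mul_self p
      have e2 : p * p * (p + 1) = p * p * p + p * p := by ring
      omega
    have h4 := Nat.mul_le_mul_right (Nat.card (P : Subgroup G)) h3
    have e3 : p * p * ((p + 1) * Nat.card (P : Subgroup G)) =
      p * p * (p + 1) * Nat.card (P : Subgroup G) := by ring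
    have e4 : 2 * (p * p + (p - 1)) * Nat.card (P : Subgroup G) =
      2 * ((p * p + (p - 1)) * Nat.card (P : Subgroup G)) := by ring
    omega
  refine ⟨hcomm, ?_⟩
  by_contra hmove
  obtain ⟨g, hgN, -, y, hy, hgy⟩ := exists_pPrime_moving P hcomm _ le_rfl hmove
  have h1 := kP_le_of_normalizing P g hgN 2 (fun d h0 h2 => by
    have : d = 1 := by omega
    subst this; exact Nat.coprime_one_left _)
  have hlt : (P : Subgroup G) ⊓ Subgroup.centralizer {g} < (P : Subgroup G) := by
    refine lt_of_le_of_ne inf_le_left fun he => hgy ?_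
    exact (Subgroup.mem_centralizer_singleton_iff.1 ((he.ge hy).2)).symm
  have h2 := card_mul_le_of_lt P.isPGroup' hlt
  have h3 := Nat.mul_le_mul_left p h1
  have e : p * (2 * kP p G) = 2 * p * kP p G := by ring
  have e2 : (p + 1) * Nat.card (P : Subgroup G) =
      p * Nat.card (P : Subgroup G) + Nat.card (P : Subgroup G) := by ring
  rw [show (2 : ℕ) - 1 = 1 from rfl, Nat.one_mul, Nat.mul_add] at h3
  omega

theorem hasNormalPComplement_of_le {p : ℕ} [Fact p.Prime] [Finite G] (P : Sylow p G)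
    (h : Subgroup.normalizer ((P : Subgroup G) : Set G) ≤ Subgroup.centralizer ((P : Subgroup G) : Set G)) :
    Cfsg.HasNormalPComplement p G :=
  ⟨P, _, inferInstance, MonoidHom.ker_transferSylow_isComplement' P h⟩

/-! ### π-elements -/

theorem exists_rep_pow_split {x : G} (r : ℕ) (hr : r.Prime) (hx : orderOf x ≠ 0) :
    ∃ u w : G, u * w = x ∧ Commute u w ∧ (∃ k, orderOf u = r ^ k) ∧ orderOf w ∣ orderOf x ∧
      ¬ r ∣ orderOf w := by
  set a := (orderOf x).factorization r with ha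
  set m := orderOf x / r ^ a with hm
  have hdiv : r ^ a ∣ orderOf x := Nat.ordProj_dvd _ _
  have hnm : r ^ a * m = orderOf x := Nat.mul_div_cancel' hdiv
  have hrm : ¬ r ∣ m := Nat.not_dvd_ordCompl hr hx
  have hb := Nat.gcd_eq_gcd_ab (r ^ a) m
  rw [(Nat.Coprime.pow_left a (hr.coprime_iff_not_dvd.2 hrm) : Nat.gcd (r ^ a) m = 1)] at hb
  refine ⟨(x ^ m) ^ Nat.gcdB (r ^ a) m, (x ^ (r ^ a)) ^ Nat.gcdA (r ^ a) m, ?_, ?_, ?_, ?_, ?_⟩
  · rw [← zpow_natCast x m, ← zpow_natCast x (r ^ a), ← zpow_mul, ← zpow_mul, ← zpow_add, add_comm,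
      ← hb, Nat.cast_one, zpow_one]
  · exact ((Commute.pow_pow_self x m (r ^ a)).zpow_left _).zpow_right _
  · have : orderOf ((x ^ m) ^ Nat.gcdB (r ^ a) m) ∣ r ^ a :=
      orderOf_dvd_of_pow_eq_one (by
        rw [← zpow_natCast ((x ^ m) ^ Nat.gcdB (r ^ a) m), ← zpow_mul, mul_comm, zpow_mul,
          zpow_natCast, ← pow_mul, Nat.mul_comm, hnm, pow_orderOf_eq_one, one_zpow])
    obtain ⟨k, -, hk⟩ := (Nat.dvd_prime_pow hr).1 this
    exact ⟨k, hk⟩
  · refine orderOf_dvd_of_pow_eq_one ?_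
    rw [← zpow_natCast ((x ^ (r ^ a)) ^ Nat.gcdA (r ^ a) m), ← zpow_mul, mul_comm, zpow_mul,
      zpow_natCast, ← pow_mul, Nat.mul_comm, pow_mul, pow_orderOf_eq_one, one_pow, one_zpow]
  · intro hd
    have : orderOf ((x ^ (r ^ a)) ^ Nat.gcdA (r ^ a) m) ∣ m := by
      refine orderOf_dvd_of_pow_eq_one ?_
      rw [← zpow_natCast ((x ^ (r ^ a)) ^ Nat.gcdA (r ^ a) m), ← zpow_mul, mul_comm, zpow_mul,
        zpow_natCast, ← pow_mul, hnm, pow_orderOf_eq_one, one_zpow]
    exact hrm (hd.trans this)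

theorem kPi_empty [Finite G] : kPi ∅ G = 1 := by
  rw [kPi, Nat.card_eq_one_iff_unique]
  refine ⟨⟨fun c d => ?_⟩, ⟨⟨ConjClasses.mk 1, ?_⟩⟩⟩
  · have h1 : ∀ e : {c : ConjClasses G // ∀ x ∈ c.carrier, ∀ r : ℕ, r.Prime → r ∣ orderOf x → r ∈ (∅ : Finset ℕ)},
        e.1 = ConjClasses.mk 1 := by
      rintro ⟨e, he⟩
      obtain ⟨x, rfl⟩ := ConjClasses.exists_rep e
      have hx : orderOf x = 1 := by
        by_contra hne
        obtain ⟨r, hr, hrd⟩ := Nat.exists_prime_and_dvd hne
        simpa using he x (by rw [ConjClasses.mem_carrier_iff_mk_eq]) r hr hrd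
      exact congrArg ConjClasses.mk (orderOf_eq_one_iff.1 hx)
    exact Subtype.ext ((h1 c).trans (h1 d).symm)
  · refine (forall_carrier_mk (P := fun y : G => ∀ r : ℕ, r.Prime → r ∣ orderOf y → r ∈ (∅ : Finset ℕ))
      (fun g x h => by rwa [orderOf_conj_eq])).2 ?_
    intro r hr hd
    rw [orderOf_one, Nat.dvd_one] at hd
    exact absurd hd hr.ne_one

universe u in
theorem kPi_insert_le {G : Type u} [Group G] [Finite G] {r : ℕ} (hr : r.Prime) (σ : Finset ℕ) (B : ℕ)
    (hB : ∀ u : G, kPi σ (Subgroup.centralizer ({u} : Set G)) ≤ B) :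
    kPi (insert r σ) G ≤ kP r G * B := by
  classical
  let A := {c : ConjClasses G // ∀ x ∈ c.carrier, ∃ k : ℕ, orderOf x = r ^ k}
  let D (c : A) := {d : ConjClasses (Subgroup.centralizer ({c.1.out} : Set G)) //
    ∀ x ∈ d.carrier, ∀ q : ℕ, q.Prime → q ∣ orderOf x → q ∈ σ}
  let F : (Σ c : A, D c) → ConjClasses G := fun z => ConjClasses.mk (z.1.1.out * (z.2.1.out : G))
  have hs : {c : ConjClasses G | ∀ x ∈ c.carrier, ∀ q : ℕ, q.Prime → q ∣ orderOf x → q ∈ insert r σ}
      ⊆ Set.range F := by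
    intro c hc
    obtain ⟨x, rfl⟩ := ConjClasses.exists_rep c
    have hx := hc x (by rw [ConjClasses.mem_carrier_iff_mk_eq])
    obtain ⟨u, w, huw, hcomm, hu, hwd, hwr⟩ := exists_rep_pow_split r hr (orderOf_pos x).ne'
    have hcA : ∀ y ∈ (ConjClasses.mk u).carrier, ∃ k : ℕ, orderOf y = r ^ k :=
      (forall_carrier_mk (P := fun y : G => ∃ k : ℕ, orderOf y = r ^ k)
        (fun g y h => by rwa [orderOf_conj_eq])).2 hu
    let a : A := ⟨ConjClasses.mk u, hcA⟩
    obtain ⟨g, hg⟩ : ∃ g, g * u * g⁻¹ = a.1.out :=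
      isConj_iff.1 (ConjClasses.mk_eq_mk_iff_isConj.1 (Quotient.out_eq a.1).symm)
    have hw0 : g * w * g⁻¹ ∈ Subgroup.centralizer ({a.1.out} : Set G) := by
      rw [Subgroup.mem_centralizer_singleton_iff, ← hg]
      calc g * w * g⁻¹ * (g * u * g⁻¹) = g * (w * u) * g⁻¹ := by group
        _ = g * (u * w) * g⁻¹ := by rw [hcomm.eq]
        _ = g * u * g⁻¹ * (g * w * g⁻¹) := by group
    have hcD : ∀ y ∈ (ConjClasses.mk (⟨_, hw0⟩ : Subgroup.centralizer ({a.1.out} : Set G))).carrier,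
        ∀ q : ℕ, q.Prime → q ∣ orderOf y → q ∈ σ := by
      refine (forall_carrier_mk (P := fun y : Subgroup.centralizer ({a.1.out} : Set G) =>
        ∀ q : ℕ, q.Prime → q ∣ orderOf y → q ∈ σ) (fun g x h => by rwa [orderOf_conj_eq])).2 ?_
      intro q hq hqd
      rw [Subgroup.orderOf_mk, orderOf_conj_eq] at hqd
      rcases Finset.mem_insert.1 (hx q hq (hqd.trans hwd)) with h | h
      · exact absurd (h ▸ hqd) hwr
      · exact h
    let d : D a := ⟨_, hcD⟩
    obtain ⟨h, hh⟩ : ∃ h, h * (⟨_, hw0⟩ : Subgroup.centralizer ({a.1.out} : Set G)) * h⁻¹ = d.1.out :=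
      isConj_iff.1 (ConjClasses.mk_eq_mk_iff_isConj.1 (Quotient.out_eq d.1).symm)
    refine ⟨⟨a, d⟩, ?_⟩
    show ConjClasses.mk (a.1.out * (d.1.out : G)) = _
    refine (ConjClasses.mk_eq_mk_iff_isConj.2 (isConj_iff.2 ⟨(h : G) * g, ?_⟩)).symm
    have hhc : (h : G) * a.1.out = a.1.out * h := Subgroup.mem_centralizer_singleton_iff.1 h.2
    have hh' : (h : G) * (g * w * g⁻¹) * (h : G)⁻¹ = (d.1.out : G) := congrArg Subtype.val hh
    calc (h : G) * g * x * ((h : G) * g)⁻¹
        = ((h : G) * (g * u * g⁻¹)) * (g * w * g⁻¹) * (h : G)⁻¹ := by rw [← huw]; group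
      _ = a.1.out * ((h : G) * (g * w * g⁻¹) * (h : G)⁻¹) := by rw [hg, hhc]; group
      _ = _ := by rw [hh']
  haveI : Fintype A := Fintype.ofFinite A
  calc kPi (insert r σ) G ≤ Nat.card (Set.range F) := Nat.card_mono (Set.finite_range F) hs
    _ ≤ Nat.card (Σ c : A, D c) := Finite.card_range_le F
    _ = ∑ c : A, Nat.card (D c) := Nat.card_sigma
    _ ≤ ∑ _c : A, B := Finset.sum_le_sum fun c _ => hB _
    _ = kP r G * B := by
      rw [Finset.sum_const, smul_eq_mul, Finset.card_univ, ← Nat.card_eq_fintype_card]; rfl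

universe u in
theorem kPi_le_part {σ : Finset ℕ} (hσ : ∀ r ∈ σ, r.Prime) (G : Type u) [Group G] [Finite G] :
    kPi σ G ≤ σ.prod (fun r => r ^ (Nat.card G).factorization r) := by
  induction σ using Finset.induction generalizing G with
  | empty => simp [kPi_empty]
  | @insert r σ hr ih =>
    have hrp : r.Prime := hσ r (Finset.mem_insert_self r σ)
    haveI := Fact.mk hrp
    have hσ' : ∀ q ∈ σ, q.Prime := fun q hq => hσ q (Finset.mem_insert_of_mem hq)
    rw [Finset.prod_insert hr]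
    refine (kPi_insert_le hrp σ (σ.prod fun q => q ^ (Nat.card G).factorization q) fun u => ?_).trans ?_
    · refine (ih hσ' _).trans (Finset.prod_le_prod' fun q hq => ?_)
      exact Nat.pow_le_pow_right (hσ' q hq).pos
        ((Nat.factorization_le_iff_dvd Nat.card_pos.ne' Nat.card_pos.ne').2
          (Subgroup.card_subgroup_dvd_card _) q)
    · obtain ⟨P⟩ : Nonempty (Sylow r G) := inferInstance
      refine Nat.mul_le_mul_right _ ?_
      rw [← Sylow.card_eq_multiplicity P]
      exact kP_le_card P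

/-- For each prime of `π`, the π-classes are bounded by its classes times the other parts. -/
theorem kPi_le_kP_mul [Finite G] {π : Finset ℕ} (hπ : ∀ r ∈ π, r.Prime) {r : ℕ} (hr : r ∈ π) :
    kPi π G ≤ kP r G * (π.erase r).prod (fun q => q ^ (Nat.card G).factorization q) := by
  classical
  have hσ' : ∀ q ∈ π.erase r, q.Prime := fun q hq => hπ q (Finset.mem_of_mem_erase hq)
  conv_lhs => rw [← Finset.insert_erase hr]
  refine kPi_insert_le (hπ r hr) (π.erase r) _ fun u => ?_
  refine (kPi_le_part hσ' _).trans (Finset.prod_le_prod' fun q hq => ?_)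
  exact Nat.pow_le_pow_right (hσ' q hq).pos
    ((Nat.factorization_le_iff_dvd Nat.card_pos.ne' Nat.card_pos.ne').2
      (Subgroup.card_subgroup_dvd_card _) q)

end Cfsg.Agent.H73

namespace Cfsg.Agent.H73

/-- An abelian Sylow-by-Sylow criterion gives a normal `π`-complement with commutative quotient. -/
theorem exists_pi_complement {G : Type*} [Group G] [Finite G] (π : Finset ℕ) (hπ : ∀ r ∈ π, r.Prime)
    (h : ∀ r ∈ π, ∃ N : Subgroup G, N.Normal ∧ ¬ r ∣ Nat.card N ∧ (∃ k, N.index = r ^ k) ∧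
      ∀ a b : G, (a * b)⁻¹ * (b * a) ∈ N) :
    ∃ N : Subgroup G, N.Normal ∧ (∀ r : ℕ, r.Prime → r ∣ Nat.card N → r ∉ π) ∧
      (∀ r : ℕ, r.Prime → r ∣ N.index → r ∈ π) ∧ ∀ a b : G, (a * b)⁻¹ * (b * a) ∈ N := by
  classical
  choose N hN hr hidx hc using h
  haveI : ∀ r : π, (N r.1 r.2).Normal := fun r => hN r.1 r.2
  let Φ : G →* ((r : π) → G ⧸ N r.1 r.2) := Pi.monoidHom fun r => QuotientGroup.mk' (N r.1 r.2)
  have hmem : ∀ x : G, x ∈ Φ.ker ↔ ∀ r (h : r ∈ π), x ∈ N r h := by
    intro x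
    rw [MonoidHom.mem_ker, funext_iff]
    exact ⟨fun h r hr' => (QuotientGroup.eq_one_iff x).1 (h ⟨r, hr'⟩),
      fun h r => (QuotientGroup.eq_one_iff x).2 (h r.1 r.2)⟩
  refine ⟨Φ.ker, inferInstance, ?_, ?_, fun a b => (hmem _).2 fun r hr' => hc r hr' a b⟩
  · intro r hrp hd hrπ
    exact hr r hrπ (hd.trans (Subgroup.card_dvd_of_le fun x hx => (hmem x).1 hx r hrπ))
  · intro q hq hd
    rw [Subgroup.index_ker] at hd
    have h2 := hd.trans (Subgroup.card_subgroup_dvd_card Φ.range)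
    rw [Nat.card_pi] at h2
    obtain ⟨r, -, hr2⟩ := (hq.prime.dvd_finsetProd_iff _).1 h2
    obtain ⟨k, hk⟩ := hidx r.1 r.2
    rw [← Subgroup.index, hk] at hr2
    rw [(Nat.prime_dvd_prime_iff_eq hq (hπ r.1 r.2)).1 (hq.dvd_of_dvd_pow hr2)]
    exact r.2

theorem exists_hall_of_pi_complement {G : Type*} [Group G] [Finite G] (π : Set ℕ) (N : Subgroup G)
    (hN : N.Normal) (h1 : ∀ r : ℕ, r.Prime → r ∣ Nat.card N → r ∉ π)
    (h2 : ∀ r : ℕ, r.Prime → r ∣ N.index → r ∈ π) :
    ∃ H : Subgroup G, ((∀ r : ℕ, r.Prime → r ∣ Nat.card H → r ∈ π) ∧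
      ∀ r : ℕ, r.Prime → r ∈ π → ¬ r ∣ H.index) ∧ N.IsComplement' H := by
  have hcop : (Nat.card N).Coprime N.index :=
    Nat.coprime_of_dvd fun r hr ha hb => h1 r hr ha (h2 r hr hb)
  obtain ⟨H, hH⟩ := Subgroup.exists_right_complement'_of_coprime hcop
  refine ⟨H, ⟨?_, ?_⟩, hH⟩
  · intro r hr hd
    exact h2 r hr (by rw [hH.symm.index_eq_card]; exact hd)
  · intro r hr hrπ hd
    rw [hH.index_eq_card] at hd
    exact h1 r hr hd hrπ

end Cfsg.Agent.H73
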