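import Mathlib

/-! An irreducible automorphism of prime order `p` of a finite elementary abelian `q`-group acts on
`q ^ orderOf (q : ZMod p)` points. -/

set_option linter.style.haveILetI false

namespace Cfsg.Agent.H73

/-- A finite commutative domain of characteristic `q` generated by an element of prime order `p`
has `q ^ orderOf (q : ZMod p)` elements. -/
theorem card_of_domain_generated {R : Type*} [CommRing R] [IsDomain R] [Finite R] {p q : ℕ}
    [Fact p.Prime] [Fact q.Prime] [CharP R q] (hpq : q ≠ p) (t : R) (ht : orderOf t = p)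
    (hgen : Subring.closure {t} = ⊤) : Nat.card R = q ^ orderOf (q : ZMod p) := by
  classical
  have hp : p.Prime := Fact.out
  have hq : q.Prime := Fact.out
  haveI := Fintype.ofFinite R
  letI : Field R := (Finite.isField_of_domain R).toField
  set d := orderOf (q : ZMod p) with hd
  have hq0 : (q : ZMod p) ≠ 0 := by
    rw [ne_eq, ZMod.natCast_eq_zero_iff, Nat.prime_dvd_prime_iff_eq hp hq]
    exact Ne.symm hpq
  have hdfin : 0 < d := by
    rw [hd, orderOf_pos_iff]
    exact isOfFinOrder_iff_pow_eq_one.2 ⟨p - 1, by have := hp.two_le; omega, ZMod.pow_card_sub_one_eq_one hq0⟩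
  have htd : t ^ q ^ d = t := by
    have h1 : ((q ^ d : ℕ) : ZMod p) = ((1 : ℕ) : ZMod p) := by
      push_cast; rw [hd, pow_orderOf_eq_one]
    rw [ZMod.natCast_eq_natCast_iff] at h1
    have h2 : q ^ d % orderOf t = 1 % orderOf t := by rw [ht]; exact h1
    rw [pow_eq_pow_mod _ (pow_orderOf_eq_one t), h2, ← pow_eq_pow_mod _ (pow_orderOf_eq_one t), pow_one]
  have hall : ∀ y : R, y ^ q ^ d = y := by
    intro y
    have hy : y ∈ Subring.closure {t} := hgen ▸ Subring.mem_top y
    induction hy using Subring.closure_induction with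
    | mem x hx => rcases hx with rfl; exact htd
    | zero => exact zero_pow (pow_ne_zero _ hq.ne_zero)
    | one => exact one_pow _
    | add a b _ _ iha ihb => rw [add_pow_char_pow, iha, ihb]
    | neg a _ iha =>
      have : (a + -a) ^ q ^ d = 0 := by rw [add_neg_cancel, zero_pow (pow_ne_zero _ hq.ne_zero)]
      rw [add_pow_char_pow, iha] at this
      exact eq_neg_of_add_eq_zero_right this
    | mul a b _ _ iha ihb => rw [mul_pow, iha, ihb]
  have h1 : 1 < q ^ d := Nat.one_lt_pow hdfin.ne' hq.one_lt
  have h2 := FiniteField.X_pow_card_sub_X_ne_zero R h1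
  have hle : Nat.card R ≤ q ^ d := by
    have hsub : (Finset.univ : Finset R) ⊆ (Polynomial.X ^ (q ^ d) - Polynomial.X : Polynomial R).roots.toFinset := by
      intro y _
      rw [Multiset.mem_toFinset, Polynomial.mem_roots h2]
      simp [hall y]
    rw [Nat.card_eq_fintype_card, ← Finset.card_univ]
    refine (Finset.card_le_card hsub).trans ((Multiset.toFinset_card_le _).trans ?_)
    refine (Polynomial.card_roots' _).trans (le_of_eq ?_)
    exact FiniteField.X_pow_card_sub_X_natDegree_eq R h1
  obtain ⟨⟨n, hn0⟩, -, hn⟩ := FiniteField.card R q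
  have hn' : Nat.card R = q ^ n := by rw [Nat.card_eq_fintype_card]; exact hn
  have htne : t ≠ 0 := by
    rintro rfl
    have h := pow_orderOf_eq_one (0 : R)
    rw [ht, zero_pow hp.ne_zero] at h
    exact zero_ne_one h
  have hdvd : p ∣ Nat.card R - 1 := by
    have := _root_.orderOf_dvd_natCard (Units.mk0 t htne)
    rwa [← orderOf_units, Units.val_mk0, ht, Nat.card_units] at this
  have h3 : (q : ZMod p) ^ n = 1 := by
    have h4 : ((Nat.card R - 1 : ℕ) : ZMod p) = 0 := by rwa [ZMod.natCast_eq_zero_iff]
    rw [Nat.cast_sub Nat.card_pos, sub_eq_zero, Nat.cast_one, hn', Nat.cast_pow] at h4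
    exact h4
  have hdn : d ≤ n := Nat.le_of_dvd hn0 (orderOf_dvd_of_pow_eq_one h3)
  have hnd : n ≤ d := by
    rw [hn'] at hle
    exact (Nat.pow_le_pow_iff_right hq.one_lt).1 hle
  rw [hn', le_antisymm hnd hdn]

theorem card_of_irreducible_prime {V : Type*} [AddCommGroup V] [Finite V] [Nontrivial V] {p q : ℕ}
    [Fact p.Prime] (hq : q.Prime) (hpq : q ≠ p) (hVq : ∀ v : V, q • v = 0) (T : AddMonoid.End V)
    (hT : T ^ p = 1) (hT1 : T ≠ 1)
    (hirr : ∀ W : AddSubgroup V, (∀ w ∈ W, T w ∈ W) → W = ⊥ ∨ W = ⊤) :
    Nat.card V = q ^ orderOf (q : ZMod p) := by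
  classical
  haveI := Fact.mk hq
  have hp : p.Prime := Fact.out
  set R : Subring (AddMonoid.End V) := Subring.closure {T} with hR
  have hTR : T ∈ R := Subring.subset_closure rfl
  have hcom : ∀ y ∈ R, Commute y T := by
    intro y hy
    induction hy using Subring.closure_induction with
    | mem x hx => rcases hx with rfl; exact Commute.refl _
    | zero => exact Commute.zero_left _
    | one => exact Commute.one_left _
    | add a b _ _ ha hb => exact ha.add_left hb
    | neg a _ ha => exact ha.neg_left
    | mul a b _ _ ha hb => exact ha.mul_left hb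
  letI : CommRing R := Subring.closureCommRingOfComm (fun a ha b hb => by rw [Set.mem_singleton_iff.1 ha, Set.mem_singleton_iff.1 hb])
  haveI : Finite (AddMonoid.End V) := Finite.of_injective (fun f => (f : V → V)) DFunLike.coe_injective
  haveI : Finite R := Subtype.finite
  have hinv : ∀ y ∈ R, ∀ v : V, y (T v) = T (y v) := fun y hy v =>
    congrArg (fun f : AddMonoid.End V => f v) (hcom y hy)
  have hker : ∀ y ∈ R, y ≠ 0 → ∀ v : V, y v = 0 → v = 0 := by
    intro y hyR hy v hv
    rcases hirr (y : V →+ V).ker (fun w hw => by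
      change y w = 0 at hw
      change y (T w) = 0
      rw [hinv y hyR, hw, map_zero]) with h | h
    · exact (AddSubgroup.eq_bot_iff_forall _).1 h v hv
    · exfalso
      apply hy
      refine DFunLike.ext _ _ fun w => ?_
      exact h.ge (AddSubgroup.mem_top w)
  haveI : Nontrivial R := ⟨⟨0, 1, fun h => by
    obtain ⟨v, hv⟩ := exists_ne (0 : V)
    exact hv (congrArg (fun f : R => f.1 v) h).symm⟩⟩
  haveI : NoZeroDivisors R := ⟨fun {a b} hab => by
    by_cases ha : a = 0
    · exact Or.inl ha
    · right
      apply Subtype.ext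
      refine DFunLike.ext _ _ fun w => ?_
      exact hker a.1 a.2 (fun h => ha (Subtype.ext h)) _ (congrArg (fun f : R => f.1 w) hab)⟩
  haveI : IsDomain R := NoZeroDivisors.to_isDomain R
  haveI : CharP R q := by
    refine CharP.charP_iff_prime_eq_zero hq |>.2 ?_
    apply Subtype.ext
    refine DFunLike.ext _ _ fun w => ?_
    show ((q : R) : AddMonoid.End V) w = 0
    rw [SubringClass.coe_natCast, AddMonoid.End.natCast_apply]
    exact hVq w
  set t : R := ⟨T, hTR⟩ with ht
  have hgen : Subring.closure {t} = ⊤ := by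
    rw [eq_top_iff]
    rintro ⟨y, hy⟩ -
    induction hy using Subring.closure_induction with
    | mem x hx => rcases hx with rfl; exact Subring.subset_closure rfl
    | zero => exact zero_mem (Subring.closure {t})
    | one => exact one_mem (Subring.closure {t})
    | add a b ha hb iha ihb => exact add_mem iha ihb
    | neg a ha iha => exact neg_mem iha
    | mul a b ha hb iha ihb => exact mul_mem iha ihb
  have htp : orderOf t = p :=
    orderOf_eq_prime (Subtype.ext hT) (fun h => hT1 (congrArg Subtype.val h))
  rw [← card_of_domain_generated hpq t htp hgen]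
  obtain ⟨v₀, hv₀⟩ := exists_ne (0 : V)
  let ev : R →+ V := AddMonoidHom.mk' (fun y => y.1 v₀) (fun _ _ => rfl)
  have hev : Function.Bijective ev := by
    refine ⟨(injective_iff_map_eq_zero ev).2 fun y hy => ?_, ?_⟩
    · by_contra hy0; exact hv₀ (hker y.1 y.2 (fun h => hy0 (Subtype.ext h)) v₀ hy)
    · rw [← AddMonoidHom.range_eq_top]
      refine (hirr ev.range ?_).resolve_left ?_
      · rintro - ⟨y, rfl⟩
        exact ⟨t * y, rfl⟩
      · intro h
        exact hv₀ ((AddSubgroup.eq_bot_iff_forall _).1 h v₀ ⟨1, rfl⟩)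
  exact (Nat.card_eq_of_bijective ev hev).symm

end Cfsg.Agent.H73
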