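import Mathlib
import Cfsg.Prelude.Def_LocalStructure
import Cfsg.Prelude.Def_Transfer
import Cfsg.Agent.H73.PrimeAction

/-! Groups with a minimal normal `p'`-subgroup of index `p`. -/

set_option linter.style.haveILetI false

namespace Cfsg.Agent.H73

open Subgroup

variable {G : Type*} [Group G] [Finite G] {p : ℕ} [Fact p.Prime]

theorem eq_zpowers_of_card {x : G} (hx : orderOf x = p) {S : Subgroup G} (hxS : x ∈ S)
    (hS : Nat.card S ∣ p) : S = zpowers x := by
  refine (eq_of_le_of_card_ge (zpowers_le.2 hxS) ?_).symm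
  rw [Nat.card_zpowers, hx]
  exact Nat.le_of_dvd (Fact.out : p.Prime).pos hS

theorem card_dvd_prime_of_isPGroup {N S : Subgroup G} (hNp : ¬ p ∣ Nat.card N) (hidx : N.index = p)
    (hS : IsPGroup p S) : Nat.card S ∣ p := by
  obtain ⟨k, hk⟩ := hS.exists_card_eq
  have h1 : p ^ k ∣ Nat.card N * p := by
    rw [← hk, ← hidx, N.card_mul_index]; exact S.card_subgroup_dvd_card
  rw [hk]
  exact ((((Fact.out : p.Prime).coprime_iff_not_dvd).2 hNp).pow_left k).dvd_of_dvd_mul_left h1

theorem card_dvd_of_inf_eq_bot (H A : Subgroup G) [A.Normal] (h : H ⊓ A = ⊥) :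
    Nat.card H ∣ Nat.card (G ⧸ A) := by
  refine card_dvd_of_injective ((QuotientGroup.mk' A).comp H.subtype) ?_
  rw [injective_iff_map_eq_one]
  intro y hy
  have : (y : G) ∈ H ⊓ A := ⟨y.2, (QuotientGroup.eq_one_iff _).1 hy⟩
  rw [h, mem_bot] at this
  exact Subtype.ext this

theorem exists_minimal_normal_le (M : Subgroup G) (hM : M.Normal) (hM1 : M ≠ ⊥) :
    ∃ N : Subgroup G, N.Normal ∧ N ≠ ⊥ ∧ N ≤ M ∧
      ∀ B : Subgroup G, B.Normal → B ≤ N → B = ⊥ ∨ B = N := by
  classical
  let P : ℕ → Prop := fun k => ∃ N : Subgroup G, N.Normal ∧ N ≠ ⊥ ∧ N ≤ M ∧ Nat.card N = k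
  have hex : ∃ k, P k := ⟨_, M, hM, hM1, le_rfl, rfl⟩
  obtain ⟨N, hN, hN1, hNM, hNk⟩ := Nat.find_spec hex
  refine ⟨N, hN, hN1, hNM, fun B hB hBN => or_iff_not_imp_left.2 fun hB1 => ?_⟩
  refine eq_of_le_of_card_ge hBN ?_
  rw [hNk]
  exact Nat.find_min' hex ⟨B, hB, hB1, hBN.trans hNM, rfl⟩

theorem irreducible_prime_order_action {q : ℕ} (hq : q.Prime) (hpq : q ≠ p)
    (hna : ¬ IsMulCommutative G) (A : Subgroup G) [hAn : A.Normal]
    (hA : Cfsg.IsElementaryAbelian q A) (hidx : A.index = p)
    (hmin : ∀ B : Subgroup G, B.Normal → B ≤ A → B = ⊥ ∨ B = A) :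
    Nat.card ↥A = q ^ orderOf (q : ZMod p) ∧ ¬ Cfsg.IsPClosed p G ∧
      (∀ H : Subgroup G, H ≠ ⊤ → Cfsg.IsPClosed p ↥H) ∧
      ∀ (N : Subgroup G) [N.Normal], N ≠ ⊥ → Cfsg.IsPClosed p (G ⧸ N) := by
  classical
  have hp : p.Prime := Fact.out
  haveI := Fact.mk hq
  obtain ⟨hAc, hAq⟩ := hA
  haveI := hAc
  have hAcomm : ∀ a ∈ A, ∀ b ∈ A, a * b = b * a := fun a ha b hb =>
    congrArg Subtype.val (mul_comm' (⟨a, ha⟩ : A) ⟨b, hb⟩)
  have hApg : IsPGroup q A := fun a => ⟨1, by rw [pow_one]; exact Subtype.ext (hAq a.1 a.2)⟩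
  have hAp : ¬ p ∣ Nat.card A := by
    obtain ⟨k, hk⟩ := hApg.exists_card_eq
    rw [hk]
    intro h
    exact hpq ((Nat.prime_dvd_prime_iff_eq hp hq).1 (hp.dvd_of_dvd_pow h)).symm
  have hpG : p ∣ Nat.card G := hidx ▸ A.index_dvd_card
  obtain ⟨x, hx⟩ := exists_prime_orderOf_dvd_card' p hpG
  have hxA : x ∉ A := fun h => hAp (hx ▸ A.orderOf_dvd_natCard h)
  -- `A` and `x` generate
  have hgen : ∀ g : G, ∃ i : ℕ, g * (x ^ i)⁻¹ ∈ A := by
    intro g
    haveI : Fact (Nat.card (G ⧸ A)).Prime := ⟨by rw [← A.index_eq_card, hidx]; exact hp⟩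
    have h1 : (x : G ⧸ A) ≠ 1 := fun h => hxA ((QuotientGroup.eq_one_iff x).1 h)
    obtain ⟨i, hi⟩ : ∃ i : ℕ, (x : G ⧸ A) ^ i = (g : G ⧸ A) :=
      (isOfFinOrder_of_finite _).mem_powers_iff_mem_zpowers.2 (mem_zpowers_of_prime_card rfl h1)
    refine ⟨i, (QuotientGroup.eq_one_iff _).1 ?_⟩
    rw [QuotientGroup.mk_mul, QuotientGroup.mk_inv, QuotientGroup.mk_pow, hi, mul_inv_cancel]
  have hxnc : ¬ ∀ a ∈ A, x * a = a * x := by
    intro h
    apply hna
    refine ⟨⟨fun g g' => ?_⟩⟩
    have hcen : ∀ g : G, ∀ a ∈ A, Commute g a := by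
      intro g a ha
      obtain ⟨i, hi⟩ := hgen g
      have : g = (g * (x ^ i)⁻¹) * x ^ i := by group
      rw [this]
      exact Commute.mul_left (hAcomm _ hi a ha) ((show Commute x a from h a ha).pow_left i)
    obtain ⟨i, hi⟩ := hgen g
    obtain ⟨j, hj⟩ := hgen g'
    have e1 : g = (g * (x ^ i)⁻¹) * x ^ i := by group
    have e2 : g' = (g' * (x ^ j)⁻¹) * x ^ j := by group
    show Commute g g'
    rw [e2]
    refine (hcen g _ hj).mul_right ?_
    rw [e1]
    exact (hcen (x ^ j) _ hi).symm.mul_left (Commute.pow_pow_self x i j)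
  have hnormal : ∀ B : Subgroup G, B ≤ A → (∀ b ∈ B, x * b * x⁻¹ ∈ B) → B.Normal := by
    intro B hBA hBx
    have hpow : ∀ i : ℕ, ∀ b ∈ B, x ^ i * b * (x ^ i)⁻¹ ∈ B := by
      intro i
      induction i with
      | zero => intro b hb; simpa using hb
      | succ i ih =>
        intro b hb
        have := hBx _ (ih b hb)
        rw [pow_succ']
        rwa [show x * x ^ i * b * (x * x ^ i)⁻¹ = x * (x ^ i * b * (x ^ i)⁻¹) * x⁻¹ by group]
    refine ⟨fun b hb g => ?_⟩
    obtain ⟨i, hi⟩ := hgen g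
    have e : g = (g * (x ^ i)⁻¹) * x ^ i := by group
    set a := g * (x ^ i)⁻¹
    have h1 := hpow i b hb
    rw [e, show a * x ^ i * b * (a * x ^ i)⁻¹ = a * (x ^ i * b * (x ^ i)⁻¹) * a⁻¹ by group,
      hAcomm a hi _ (hBA h1)]
    simpa using h1
  have hnc : ¬ Cfsg.IsPClosed p G := by
    intro hcl
    obtain ⟨S, hS⟩ := (IsPGroup.of_card (n := 1) (by rw [Nat.card_zpowers, hx, pow_one]) :
      IsPGroup p (zpowers x)).exists_le_sylow
    haveI := hcl S
    have hdisj : Disjoint A (S : Subgroup G) := by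
      rw [Subgroup.disjoint_def]
      intro g hgA hgS
      have h1 := (S : Subgroup G).orderOf_dvd_natCard hgS
      have h2 := A.orderOf_dvd_natCard hgA
      have hcop : (Nat.card A).Coprime (Nat.card (S : Subgroup G)) := by
        obtain ⟨k, hk⟩ := S.2.exists_card_eq
        rw [hk]
        exact (((hp.coprime_iff_not_dvd).2 hAp).symm).pow_right k
      exact orderOf_eq_one_iff.1 (Nat.eq_one_of_dvd_coprimes hcop h2 h1)
    exact hxnc fun a ha =>
      (Subgroup.commute_of_normal_of_disjoint A _ hAn ‹_› hdisj a x ha (hS (mem_zpowers x))).symm.eq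
  refine ⟨?_, hnc, ?_, ?_⟩
  · let f : A →* A :=
      { toFun := fun a => ⟨x * a.1 * x⁻¹, hAn.conj_mem _ a.2 x⟩
        map_one' := by ext; simp
        map_mul' := fun a b => by ext; simp }
    have hne : ¬ ∀ a : A, f a = a := fun h => hxnc fun a ha => by
      have := congrArg Subtype.val (h ⟨a, ha⟩)
      exact mul_inv_eq_iff_eq_mul.1 this
    haveI : Nontrivial A := by
      by_contra hA1
      rw [not_nontrivial_iff_subsingleton] at hA1
      exact hne fun a => Subsingleton.elim _ _
    letI : CommGroup A := { (inferInstance : Group A) with mul_comm := mul_comm' }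
    let T : AddMonoid.End (Additive A) := MonoidHom.toAdditive f
    have hTp : ∀ (i : ℕ) (v : Additive A),
        ((Additive.toMul ((T ^ i) v)) : A).1 = x ^ i * (Additive.toMul v).1 * (x ^ i)⁻¹ := by
      intro i
      induction i with
      | zero => intro v; simp
      | succ i ih =>
        intro v
        rw [pow_succ]
        have h1 : ((T ^ i * T) v) = (T ^ i) (T v) := rfl
        rw [h1, ih]
        show x ^ i * (x * (Additive.toMul v).1 * x⁻¹) * (x ^ i)⁻¹ = _
        group
    rw [show Nat.card A = Nat.card (Additive A) from Nat.card_congr Additive.ofMul]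
    refine card_of_irreducible_prime hq hpq ?_ T ?_ ?_ ?_
    · intro v
      apply Additive.toMul.injective
      rw [toMul_nsmul, toMul_zero]
      exact Subtype.ext (hAq _ (Additive.toMul v).2)
    · refine DFunLike.ext _ _ fun v => ?_
      apply Additive.toMul.injective
      apply Subtype.ext
      rw [hTp, show x ^ p = 1 from hx ▸ pow_orderOf_eq_one x]
      simp
    · intro h
      apply hne
      intro a
      have := congrArg (fun S : AddMonoid.End (Additive A) => Additive.toMul (S (Additive.ofMul a))) h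
      exact this
    · intro W hW
      let B : Subgroup G := (AddSubgroup.toSubgroup' W).map A.subtype
      have hB : B.Normal := by
        refine hnormal B (map_subtype_le _) ?_
        rintro _ ⟨b, hb, rfl⟩
        exact ⟨f b, hW (Additive.ofMul b) hb, rfl⟩
      rcases hmin B hB (map_subtype_le _) with h | h
      · left
        rw [AddSubgroup.eq_bot_iff_forall]
        intro v hv
        have : (Additive.toMul v).1 ∈ B := ⟨Additive.toMul v, hv, rfl⟩
        rw [h, mem_bot] at this
        apply Additive.toMul.injective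
        exact Subtype.ext this
      · right
        rw [eq_top_iff]
        intro v _
        have : (Additive.toMul v).1 ∈ B := h.symm ▸ (Additive.toMul v).2
        obtain ⟨b, hb, hbv⟩ := this
        have hbe : b = Additive.toMul v := Subtype.ext hbv
        subst hbe
        exact hb
  · intro H hH S
    by_cases hHA : H ≤ A
    · have h1 : (S : Subgroup H) = ⊥ := by
        obtain ⟨k, hk⟩ := S.2.exists_card_eq
        rw [← card_eq_one, hk]
        cases k with
        | zero => simp
        | succ k =>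
          exact absurd (((dvd_pow_self p k.succ_ne_zero).trans (hk ▸ (S : Subgroup H).card_subgroup_dvd_card)).trans
            (card_dvd_of_le hHA)) hAp
      rw [h1]; infer_instance
    · have hdisj : H ⊓ A = ⊥ := by
        obtain ⟨h, hhH, hhA⟩ := SetLike.not_le_iff_exists.1 hHA
        haveI : Fact (Nat.card (G ⧸ A)).Prime := ⟨by rw [← A.index_eq_card, hidx]; exact hp⟩
        obtain ⟨i, hi⟩ : ∃ i : ℕ, (h : G ⧸ A) ^ i = (x : G ⧸ A) :=
          (isOfFinOrder_of_finite _).mem_powers_iff_mem_zpowers.2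
            (mem_zpowers_of_prime_card rfl (fun hh => hhA ((QuotientGroup.eq_one_iff h).1 hh)))
        have hax : x * (h ^ i)⁻¹ ∈ A := by
          rw [← QuotientGroup.eq_one_iff, QuotientGroup.mk_mul, QuotientGroup.mk_inv,
            QuotientGroup.mk_pow, hi, mul_inv_cancel]
        have hBn : (H ⊓ A).Normal := by
          refine hnormal _ inf_le_right ?_
          rintro b ⟨hbH, hbA⟩
          have e : x = (x * (h ^ i)⁻¹) * h ^ i := by group
          set a := x * (h ^ i)⁻¹
          have hc : h ^ i * b * (h ^ i)⁻¹ ∈ A := hAn.conj_mem _ hbA _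
          rw [e, show a * h ^ i * b * (a * h ^ i)⁻¹ = a * (h ^ i * b * (h ^ i)⁻¹) * a⁻¹ by group,
            hAcomm a hax _ hc, mul_inv_cancel_right]
          exact ⟨H.mul_mem (H.mul_mem (H.pow_mem hhH i) hbH) (H.inv_mem (H.pow_mem hhH i)), hc⟩
        refine (hmin _ hBn inf_le_right).resolve_right fun hh => hH ?_
        have hle : A ≤ H := hh ▸ inf_le_left
        have hlt : A < H := lt_of_le_of_ne hle fun e => hHA e.ge
        have h2 := relIndex_mul_index hle
        rw [hidx] at h2
        rcases hp.eq_one_or_self_of_dvd _ (Dvd.intro_left _ h2) with h3 | h3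
        · exact index_eq_one.1 h3
        · rw [h3] at h2
          exact absurd (relIndex_eq_one.1 (Nat.eq_of_mul_eq_mul_right hp.pos (h2.trans (one_mul p).symm))) hlt.not_ge
      have hcard : Nat.card H ∣ p := by
        rw [← hidx, A.index_eq_card]
        exact card_dvd_of_inf_eq_bot H A hdisj
      have htop : (S : Subgroup H) = ⊤ := by
        obtain ⟨k, -, hk⟩ := (Nat.dvd_prime_pow hp).1 (show Nat.card H ∣ p ^ 1 by rwa [pow_one])
        exact (S.is_maximal' (IsPGroup.of_card (G := (⊤ : Subgroup H)) (n := k) (by rw [card_top]; exact hk)) le_top).symm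
      rw [htop]; infer_instance
  · intro N hN hN1
    rcases hmin (N ⊓ A) inferInstance inf_le_right with h | h
    · -- then `N` is a normal subgroup of order `p`
      exfalso
      apply hnc
      have hcard : Nat.card N ∣ p := by
        rw [← hidx, A.index_eq_card]
        exact card_dvd_of_inf_eq_bot N A h
      have hNp : Nat.card N = p :=
        (hp.eq_one_or_self_of_dvd _ hcard).resolve_left (fun h1 => hN1 (card_eq_one.1 h1))
      intro S
      have : (N : Subgroup G) = S := by
        refine eq_of_le_of_card_ge ?_ (le_of_eq ?_)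
        · have hsupp : IsPGroup p ((S : Subgroup G) ⊔ N : Subgroup G) := S.2.to_sup_of_normal_right (IsPGroup.of_card (n := 1) (by rw [hNp, pow_one]))
          exact le_sup_right.trans (S.is_maximal' hsupp le_sup_left).le
        · rw [hNp]
          have := card_dvd_prime_of_isPGroup hAp hidx S.2
          rcases hp.eq_one_or_self_of_dvd _ this with h1 | h1
          · exact absurd h1 (S.ne_bot_of_dvd_card hpG |> fun h => mt card_eq_one.1 h)
          · exact h1
      rw [← this]; exact hN
    · intro S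
      have hNA : A ≤ N := h ▸ inf_le_left
      have hd : Nat.card (G ⧸ N) ∣ p := by
        rw [← N.index_eq_card, ← hidx]; exact index_dvd_of_le hNA
      obtain ⟨k, -, hk⟩ := (Nat.dvd_prime_pow hp).1 (show Nat.card (G ⧸ N) ∣ p ^ 1 by rwa [pow_one])
      have htop : (S : Subgroup (G ⧸ N)) = ⊤ := by
        exact (S.is_maximal' (IsPGroup.of_card (G := (⊤ : Subgroup (G ⧸ N))) (n := k) (by rw [card_top]; exact hk)) le_top).symm
      rw [htop]; infer_instance

/-- A non-`p`-closed group with a minimal normal `p'`-subgroup of index `p` in which elements of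
order `p` of proper subgroups generate normal subgroups of these. -/
theorem structure_of_index_prime (N : Subgroup G) [hNn : N.Normal] (hN1 : N ≠ ⊥)
    (hmin : ∀ B : Subgroup G, B.Normal → B ≤ N → B = ⊥ ∨ B = N)
    (hNp : ¬ p ∣ Nat.card N) (hidx : N.index = p) (hnc : ¬ Cfsg.IsPClosed p G)
    (hsub : ∀ K : Subgroup G, K ≠ ⊤ → ∀ x ∈ K, orderOf x = p → ∀ k ∈ K, k * x * k⁻¹ ∈ zpowers x) :
    ∃ q : ℕ, q.Prime ∧ q ≠ p ∧ Nat.card G = p * q ^ orderOf (q : ZMod p) ∧
      ∃ A : Subgroup G, A.Normal ∧ Nat.card ↥A = q ^ orderOf (q : ZMod p) ∧ Cfsg.IsElementaryAbelian q A ∧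
        ∀ B : Subgroup G, B.Normal → B ≤ A → B = ⊥ ∨ B = A := by
  classical
  have hp : p.Prime := Fact.out
  have hpG : p ∣ Nat.card G := hidx ▸ N.index_dvd_card
  -- some prime has a normal Sylow subgroup in `N`
  obtain ⟨q, hq, Q, hQ⟩ : ∃ q : ℕ, q.Prime ∧ ∃ Q : Sylow q N, q ∣ Nat.card N ∧
      ((Q : Subgroup N).map N.subtype).Normal := by
    by_contra hno
    push Not at hno
    obtain ⟨x₀, hx₀⟩ := exists_prime_orderOf_dvd_card' p hpG
    have key : ∀ (q k : ℕ), q.Prime → q ^ k ∣ Nat.card N →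
        q ^ k ∣ Nat.card ↥(N ⊓ centralizer {x₀} : Subgroup G) := by
      intro q k hq hqk
      rcases k.eq_zero_or_pos with rfl | hk
      · simp
      haveI := Fact.mk hq
      let Q : Sylow q N := default
      set Q₁ := (Q : Subgroup N).map N.subtype with hQ₁
      set K := normalizer (Q₁ : Set G) with hK
      have hKne : K ≠ ⊤ := fun h => hno q hq Q ((dvd_pow_self q hk.ne').trans hqk)
        (normalizer_eq_top_iff.1 h)
      have hsup : K ⊔ N = ⊤ := Sylow.normalizer_sup_eq_top Q
      have hpK : p ∣ Nat.card K := by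
        have h1 : K.map (QuotientGroup.mk' N) = ⊤ := by
          have h2 : (K ⊔ N).map (QuotientGroup.mk' N) = ⊤ := by
            rw [hsup]; exact map_top_of_surjective _ (QuotientGroup.mk'_surjective N)
          rwa [Subgroup.map_sup, QuotientGroup.map_mk'_self, sup_bot_eq] at h2
        have h3 := Subgroup.card_map_dvd (H := K) (f := QuotientGroup.mk' N)
        rwa [h1, card_top, ← N.index_eq_card, hidx] at h3
      obtain ⟨y, hy⟩ := exists_prime_orderOf_dvd_card' p hpK
      have hy' : orderOf (y : G) = p := by rw [orderOf_coe]; exact hy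
      have hdisj : ∀ g ∈ N, g ∈ zpowers (y : G) → g = 1 := by
        intro g hgN hgz
        have h1 := N.orderOf_dvd_natCard hgN
        have h2 : orderOf g ∣ p := by
          have := (zpowers (y : G)).orderOf_dvd_natCard hgz
          rwa [Nat.card_zpowers, hy'] at this
        rcases hp.eq_one_or_self_of_dvd _ h2 with h3 | h3
        · exact orderOf_eq_one_iff.1 h3
        · exact absurd (h3 ▸ h1) hNp
      have hQK : Q₁ ≤ K := le_normalizer
      have hyQ : ∀ a ∈ Q₁, (y : G) * a = a * y := by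
        intro a ha
        have h1 := hsub K hKne _ y.2 hy' a (hQK ha)
        have h2 : a * y * a⁻¹ * (y : G)⁻¹ ∈ zpowers (y : G) := mul_mem h1 (inv_mem (mem_zpowers _))
        have h3 : (y : G) * a⁻¹ * (y : G)⁻¹ ∈ Q₁ := (mem_normalizer_iff.1 y.2 _).1 (inv_mem ha)
        have h4 : a * y * a⁻¹ * (y : G)⁻¹ ∈ N := by
          rw [show a * y * a⁻¹ * (y : G)⁻¹ = a * ((y : G) * a⁻¹ * (y : G)⁻¹) by group]
          exact map_subtype_le _ (mul_mem ha h3)
        have h5 := hdisj _ h4 h2
        rw [mul_inv_eq_one, mul_inv_eq_iff_eq_mul] at h5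
        exact h5.symm
      -- move `y` to `x₀`
      haveI : Fact p.Prime := ⟨hp⟩
      have hz : ∀ z : G, orderOf z = p → ∃ S : Sylow p G, (S : Subgroup G) = zpowers z := by
        intro z hz
        obtain ⟨S, hS⟩ := (IsPGroup.of_card (n := 1) (by rw [Nat.card_zpowers, hz, pow_one]) :
          IsPGroup p (zpowers z)).exists_le_sylow
        exact ⟨S, eq_zpowers_of_card hz (hS (mem_zpowers z)) (card_dvd_prime_of_isPGroup hNp hidx S.2)⟩
      obtain ⟨S₁, hS₁⟩ := hz _ hy'
      obtain ⟨S₀, hS₀⟩ := hz _ hx₀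
      obtain ⟨g, hg⟩ := MulAction.exists_smul_eq G S₁ S₀
      have hxg : g⁻¹ * x₀ * g ∈ zpowers (y : G) := by
        have h1 : x₀ ∈ ((g • S₁ : Sylow p G) : Subgroup G) := by rw [hg, hS₀]; exact mem_zpowers _
        rw [Sylow.coe_subgroup_smul, mem_pointwise_smul_iff_inv_smul_mem, hS₁] at h1
        simpa using h1
      have hle : Q₁.map (MulAut.conj g).toMonoidHom ≤ N ⊓ centralizer {x₀} := by
        rintro _ ⟨a, ha, rfl⟩
        refine ⟨hNn.conj_mem a (map_subtype_le _ ha) g, ?_⟩
        show _ ∈ centralizer {x₀}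
        rw [mem_centralizer_singleton_iff]
        have hc : Commute (g⁻¹ * x₀ * g) a := by
          obtain ⟨i, hi⟩ := hxg
          simp only at hi
          rw [← hi]
          exact Commute.zpow_left (hyQ a ha) i
        have := congrArg (fun t => g * t * g⁻¹) hc.eq
        simp only [mul_assoc, mul_inv_cancel_left, mul_inv_cancel, mul_one, MulEquiv.coe_toMonoidHom, MulAut.conj_apply] at this ⊢
        exact this.symm
      refine dvd_trans ?_ (card_dvd_of_le hle)
      rw [card_map_of_injective (MulAut.conj g).injective, hQ₁, card_map_of_injective Subtype.val_injective,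
        Q.card_eq_multiplicity]
      exact Nat.pow_dvd_pow q ((hq.pow_dvd_iff_le_factorization Nat.card_pos.ne').1 hqk)
    have hNle : N ≤ centralizer {x₀} := by
      refine inf_eq_left.1 (eq_of_le_of_card_ge inf_le_left (Nat.le_of_dvd Nat.card_pos ?_))
      exact (Nat.dvd_iff_prime_pow_dvd_dvd _ _).2 key
    apply hnc
    intro S
    have hS : Nat.card (S : Subgroup G) ∣ p := card_dvd_prime_of_isPGroup hNp hidx S.2
    obtain ⟨S', hS'⟩ := (IsPGroup.of_card (n := 1) (by rw [Nat.card_zpowers, hx₀, pow_one]) :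
      IsPGroup p (zpowers x₀)).exists_le_sylow
    have hS'e := eq_zpowers_of_card hx₀ (hS' (mem_zpowers _)) (card_dvd_prime_of_isPGroup hNp hidx S'.2)
    have hnorm : (S' : Subgroup G).Normal := by
      rw [hS'e, ← normalizer_eq_top_iff, eq_top_iff]
      haveI : Fact (Nat.card (G ⧸ N)).Prime := ⟨by rw [← N.index_eq_card, hidx]; exact hp⟩
      have hx₀N : x₀ ∉ N := fun h => hNp (hx₀ ▸ N.orderOf_dvd_natCard h)
      intro g _
      obtain ⟨i, hi⟩ : ∃ i : ℕ, (x₀ : G ⧸ N) ^ i = (g : G ⧸ N) :=
        (isOfFinOrder_of_finite _).mem_powers_iff_mem_zpowers.2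
          (mem_zpowers_of_prime_card rfl (fun h => hx₀N ((QuotientGroup.eq_one_iff x₀).1 h)))
      have hgN : g * (x₀ ^ i)⁻¹ ∈ N := by
        rw [← QuotientGroup.eq_one_iff, QuotientGroup.mk_mul, QuotientGroup.mk_inv,
          QuotientGroup.mk_pow, hi, mul_inv_cancel]
      rw [show g = (g * (x₀ ^ i)⁻¹) * x₀ ^ i by group]
      refine mul_mem (centralizer_le_normalizer _ ?_) (le_normalizer (pow_mem (mem_zpowers x₀) i))
      rw [zpowers_eq_closure, centralizer_closure]
      exact hNle hgN
    haveI := hnorm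
    obtain ⟨g, hg⟩ := MulAction.exists_smul_eq G S' S
    rw [← hg, Sylow.coe_subgroup_smul, Subgroup.Normal.conj_smul_eq_self]
    exact hnorm
  haveI := Fact.mk hq
  obtain ⟨hqN, hQn⟩ := hQ
  have hQe : (Q : Subgroup N).map N.subtype = N := by
    refine (hmin _ hQn (map_subtype_le _)).resolve_left fun h => ?_
    exact Q.ne_bot_of_dvd_card hqN ((map_eq_bot_iff_of_injective _ Subtype.val_injective).1 h)
  have hNq : IsPGroup q N := by
    have := Q.2.map N.subtype
    rwa [hQe] at this
  have hqp : q ≠ p := fun h => hNp (h ▸ hqN)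
  -- `N` is elementary abelian
  haveI : Nontrivial N := (nontrivial_iff_ne_bot N).2 hN1
  have hcen : center N = ⊤ := by
    haveI : (((center N).map N.subtype) : Subgroup G).Normal := inferInstance
    rcases hmin ((center N).map N.subtype) inferInstance (map_subtype_le _) with h | h
    · exact absurd ((map_eq_bot_iff_of_injective _ Subtype.val_injective).1 h)
        (haveI := hNq.center_nontrivial; (nontrivial_iff_ne_bot _).1 this)
    · apply map_injective (f := N.subtype) Subtype.val_injective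
      rw [h, ← MonoidHom.range_eq_map, range_subtype]
  have hcomm : ∀ a ∈ N, ∀ b ∈ N, a * b = b * a := fun a ha b hb =>
    congrArg Subtype.val (mem_center_iff.1 (hcen ▸ mem_top (⟨b, hb⟩ : N)) ⟨a, ha⟩)
  let B : Subgroup G :=
    { carrier := {a | a ∈ N ∧ a ^ q = 1}
      one_mem' := ⟨one_mem _, one_pow _⟩
      mul_mem' := fun {a b} ha hb => ⟨mul_mem ha.1 hb.1, by
        rw [(show Commute a b from hcomm a ha.1 b hb.1).mul_pow, ha.2, hb.2, one_mul]⟩
      inv_mem' := fun {a} ha => ⟨inv_mem ha.1, by rw [inv_pow, ha.2, inv_one]⟩ }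
  have hB : B.Normal := ⟨fun a ha g => ⟨hNn.conj_mem _ ha.1 g, by rw [conj_pow, ha.2]; group⟩⟩
  have hBe : B = N := by
    refine (hmin B hB fun a ha => ha.1).resolve_left fun h => ?_
    obtain ⟨a, ha⟩ := exists_prime_orderOf_dvd_card' q hqN
    have : (a : G) ∈ B := ⟨a.2, by rw [← coe_pow, ← ha, pow_orderOf_eq_one, coe_one]⟩
    rw [h, mem_bot] at this
    rw [show a = 1 from Subtype.ext this, orderOf_one] at ha
    exact hq.ne_one ha.symm
  have hel : Cfsg.IsElementaryAbelian q N :=
    ⟨⟨⟨fun a b => Subtype.ext (hcomm _ a.2 _ b.2)⟩⟩, fun a ha => ((hBe.symm ▸ ha : a ∈ B)).2⟩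
  have hna : ¬ IsMulCommutative G := fun h => hnc fun S => by
    haveI := h
    exact ⟨fun a ha g => by rw [mul_comm' g a, mul_inv_cancel_right]; exact ha⟩
  obtain ⟨hcard, -⟩ := irreducible_prime_order_action hq hqp hna N hel hidx hmin
  refine ⟨q, hq, hqp, ?_, N, hNn, hcard, hel, hmin⟩
  rw [← N.index_mul_card, hidx, hcard]

end Cfsg.Agent.H73
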