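import Mathlib
import Cfsg.Prelude.Def_Transfer
import Cfsg.Agent.Char.Nilpotent

/-! Nilpotent minimal covers: two members never lie in one proper subgroup. -/

set_option autoImplicit false
set_option linter.style.haveILetI false

set_option linter.unusedSectionVars false

namespace Cfsg.Agent.H73.NilCover

open Subgroup

variable {G : Type*} [Group G] [Finite G]

def IsMinNilCover (𝓐 : Finset (Subgroup G)) : Prop :=
  ((∀ A ∈ 𝓐, A ≠ ⊤) ∧ (∀ g : G, ∃ A ∈ 𝓐, g ∈ A)) ∧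
    (∀ 𝓑 : Finset (Subgroup G), (∀ A ∈ 𝓑, A ≠ ⊤) ∧ (∀ g : G, ∃ A ∈ 𝓑, g ∈ A) →
      𝓐.card ≤ 𝓑.card) ∧ (∀ A ∈ 𝓐, Group.IsNilpotent ↥A)

theorem member_unique {𝓐 : Finset (Subgroup G)} (h : IsMinNilCover 𝓐) {A B : Subgroup G}
    (hA : A ∈ 𝓐) (hB : B ∈ 𝓐) {H : Subgroup G} (hH : H ≠ ⊤) (hAH : A ≤ H) (hBH : B ≤ H) :
    A = B := by
  classical
  by_contra hne
  obtain ⟨⟨hp, hc⟩, hmin, -⟩ := h
  have h1 := hmin (insert H ((𝓐.erase A).erase B)) ⟨fun X hX => by
      rcases Finset.mem_insert.1 hX with rfl | hX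
      · exact hH
      · exact hp X (Finset.mem_of_mem_erase (Finset.mem_of_mem_erase hX)),
    fun g => by
      obtain ⟨X, hX, hg⟩ := hc g
      by_cases hXA : X = A
      · exact ⟨H, Finset.mem_insert_self _ _, hAH (hXA ▸ hg)⟩
      by_cases hXB : X = B
      · exact ⟨H, Finset.mem_insert_self _ _, hBH (hXB ▸ hg)⟩
      exact ⟨X, Finset.mem_insert_of_mem (by simp [hXA, hXB, hX]), hg⟩⟩
  have h2 := Finset.card_insert_le H ((𝓐.erase A).erase B)
  have hB' : B ∈ 𝓐.erase A := Finset.mem_erase.2 ⟨fun e => hne e.symm, hB⟩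
  have h3 := Finset.card_erase_add_one hA
  have h4 := Finset.card_erase_add_one hB'
  omega

/-- All `p`-subgroups are abelian. -/
def AbSyl (p : ℕ) (G : Type*) [Group G] : Prop :=
  ∀ S : Subgroup G, IsPGroup p S → ∀ a ∈ S, ∀ b ∈ S, a * b = b * a

theorem abSyl_of_sylow {p : ℕ} [Fact p.Prime] (P : Sylow p G)
    (hab : IsMulCommutative ↥(P : Subgroup G)) : AbSyl p G := fun S hS a ha b hb => by
  obtain ⟨Q, hQ⟩ := hS.exists_le_sylow
  let e := P.equiv Q
  obtain ⟨a', ha'⟩ := e.surjective ⟨a, hQ ha⟩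
  obtain ⟨b', hb'⟩ := e.surjective ⟨b, hQ hb⟩
  have := congrArg Subtype.val (congrArg e (hab.is_comm.comm a' b'))
  rw [map_mul, map_mul, ha', hb'] at this
  exact this

theorem exists_parts {p : ℕ} [hp : Fact p.Prime] (y : G) : ∃ e m : ℕ, p.Coprime m ∧
    (y ^ m) ^ p ^ e = 1 ∧ (y ^ p ^ e) ^ m = 1 ∧ ∀ A : Subgroup G, y ^ m ∈ A → y ^ p ^ e ∈ A → y ∈ A := by
  obtain ⟨e, m, hm, hn⟩ := Nat.exists_eq_pow_mul_and_not_dvd (orderOf_pos y).ne' p hp.out.ne_one
  have hc : p.Coprime m := hp.out.coprime_iff_not_dvd.2 hm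
  refine ⟨e, m, hc, ?_, ?_, fun A h1 h2 => ?_⟩
  · rw [← pow_mul, mul_comm, ← hn, pow_orderOf_eq_one]
  · rw [← pow_mul, ← hn, pow_orderOf_eq_one]
  · have hg := Nat.gcd_eq_gcd_ab (p ^ e) m
    rw [Nat.Coprime.gcd_eq_one (hc.pow_left e)] at hg
    have : y = (y ^ p ^ e) ^ Nat.gcdA (p ^ e) m * (y ^ m) ^ Nat.gcdB (p ^ e) m := by
      rw [← zpow_natCast y (p ^ e), ← zpow_natCast y m, ← zpow_mul, ← zpow_mul, ← zpow_add, ← hg]
      simp
    rw [this]
    exact A.mul_mem (A.zpow_mem h2 _) (A.zpow_mem h1 _)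

theorem nil_commute {p : ℕ} [hp : Fact p.Prime] (hab : AbSyl p G) {A : Subgroup G}
    (hA : Group.IsNilpotent A) {x a : G} {k : ℕ} (hx : x ^ p ^ k = 1) (hxA : x ∈ A) (haA : a ∈ A) :
    a * x = x * a := by
  haveI := hA
  suffices h : a ∈ centralizer {x} from mem_centralizer_singleton_iff.1 h
  obtain ⟨e, m, hc, hu, hv, hgen⟩ := exists_parts (p := p) a
  apply hgen
  · obtain ⟨R⟩ : Nonempty (Sylow p A) := inferInstance
    haveI hN : (R : Subgroup A).Normal := inferInstance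
    haveI : Subsingleton (Sylow p A) := by
      haveI := Sylow.unique_of_normal R hN
      infer_instance
    have hin : ∀ z : A, ∀ j : ℕ, z ^ p ^ j = 1 → z ∈ (R : Subgroup A) := fun z j hz => by
      obtain ⟨i, -, hi⟩ := (Nat.dvd_prime_pow hp.out).1 (orderOf_dvd_of_pow_eq_one hz)
      obtain ⟨Q, hQ⟩ := (IsPGroup.of_card (n := i) (by rw [Nat.card_zpowers, hi]) :
        IsPGroup p (zpowers z)).exists_le_sylow
      rw [Subsingleton.elim R Q]
      exact hQ (mem_zpowers z)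
    rw [mem_centralizer_singleton_iff]
    exact hab _ (R.isPGroup'.map A.subtype) _
      ⟨_, hin (⟨a, haA⟩ ^ m) e (Subtype.ext hu), rfl⟩ _
      ⟨_, hin ⟨x, hxA⟩ k (Subtype.ext hx), rfl⟩
  · rw [mem_centralizer_singleton_iff]
    have := Char.nilpotent_commute_of_coprime
      (a := (⟨a ^ p ^ e, A.pow_mem haA _⟩ : A)) (b := ⟨x, hxA⟩) (by
        rw [Subgroup.orderOf_mk, Subgroup.orderOf_mk]
        exact ((hc.symm.pow_right k).coprime_dvd_left (orderOf_dvd_of_pow_eq_one hv))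
          |>.coprime_dvd_right (orderOf_dvd_of_pow_eq_one hx))
    exact congrArg Subtype.val this.eq

variable {𝓐 : Finset (Subgroup G)} {p : ℕ} [hp : Fact p.Prime]

theorem member_le_centralizer (h : IsMinNilCover 𝓐) (hab : AbSyl p G) {A : Subgroup G}
    (hA : A ∈ 𝓐) {x : G} {k : ℕ} (hx : x ^ p ^ k = 1) (hxA : x ∈ A) : A ≤ centralizer {x} :=
  fun _ ha => mem_centralizer_singleton_iff.2 (nil_commute hab (h.2.2 A hA) hx hxA ha)

theorem member_eq (h : IsMinNilCover 𝓐) (hab : AbSyl p G) (hZ : center G = ⊥) {A B : Subgroup G}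
    (hA : A ∈ 𝓐) (hB : B ∈ 𝓐) {x : G} {k : ℕ} (hx : x ^ p ^ k = 1) (hx1 : x ≠ 1) (hxA : x ∈ A)
    (hxB : x ∈ B) : A = B := by
  refine member_unique h hA hB (fun ht => hx1 ?_) (member_le_centralizer h hab hA hx hxA)
    (member_le_centralizer h hab hB hx hxB)
  rw [← mem_bot, ← hZ, mem_center_iff]
  exact fun g => mem_centralizer_singleton_iff.1 (ht ▸ mem_top g)

theorem exists_member_ge (h : IsMinNilCover 𝓐) (hab : AbSyl p G) (hZ : center G = ⊥)
    (P : Sylow p G) (hne : (P : Subgroup G) ≠ ⊥)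
    (hP : ¬ (Cfsg.IsElementaryAbelian p (P : Subgroup G) ∧ p < Nat.card ↥(P : Subgroup G))) :
    ∃ A ∈ 𝓐, (P : Subgroup G) ≤ A := by
  have hcomm := hab _ P.isPGroup'
  have hord : ∀ z ∈ (P : Subgroup G), ∃ j, z ^ p ^ j = 1 := fun z hz => by
    obtain ⟨j, hj⟩ := P.isPGroup' ⟨z, hz⟩
    exact ⟨j, congrArg Subtype.val hj⟩
  by_cases hexp : ∀ a ∈ (P : Subgroup G), a ^ p = 1
  · obtain ⟨x, hxP, hx1⟩ := (bot_or_exists_ne_one (P : Subgroup G)).resolve_left hne
    obtain ⟨A, hA, hxA⟩ := h.1.2 x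
    refine ⟨A, hA, ?_⟩
    have hox : orderOf x = p := orderOf_eq_prime (hexp x hxP) hx1
    have hc : Nat.card (zpowers x) = p := by rw [Nat.card_zpowers, hox]
    have hle : Nat.card ↥(P : Subgroup G) ≤ p := not_lt.1 fun hlt =>
      hP ⟨⟨⟨⟨fun a b => Subtype.ext (hcomm _ a.2 _ b.2)⟩⟩, hexp⟩, hlt⟩
    rw [← eq_of_le_of_card_ge (zpowers_le.2 hxP) (by rw [hc]; exact hle)]
    exact zpowers_le.2 hxA
  · push Not at hexp
    obtain ⟨x, hxP, hxp⟩ := hexp
    obtain ⟨A, hA, hxA⟩ := h.1.2 x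
    refine ⟨A, hA, ?_⟩
    obtain ⟨j, hj⟩ := hord x hxP
    have hxpj : (x ^ p) ^ p ^ j = 1 := by rw [← pow_mul, mul_comm, pow_mul, hj, one_pow]
    have homega : ∀ y ∈ (P : Subgroup G), y ^ p = 1 → y ∈ A := fun y hy hyp => by
      obtain ⟨B, hB, hxyB⟩ := h.1.2 (x * y)
      have h1 : x ^ p ∈ B := by
        have := B.pow_mem hxyB p
        rwa [(show Commute x y from hcomm x hxP y hy).mul_pow, hyp, mul_one] at this
      obtain rfl := member_eq h hab hZ hA hB hxpj hxp (A.pow_mem hxA p) h1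
      have := A.mul_mem (A.inv_mem hxA) hxyB
      rwa [inv_mul_cancel_left] at this
    intro z hz
    by_cases hz1 : z = 1
    · rw [hz1]; exact A.one_mem
    obtain ⟨i, hi⟩ := hord z hz
    obtain ⟨k, -, hk⟩ := (Nat.dvd_prime_pow hp.out).1 (orderOf_dvd_of_pow_eq_one hi)
    obtain ⟨k, rfl⟩ : ∃ k', k = k' + 1 := by
      refine Nat.exists_eq_succ_of_ne_zero fun h0 => hz1 ?_
      rw [← orderOf_eq_one_iff, hk, h0, pow_zero]
    have hw1 : z ^ p ^ k ≠ 1 := fun hw => by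
      have := Nat.le_of_dvd (pow_pos hp.out.pos _) (hk ▸ orderOf_dvd_of_pow_eq_one hw)
      exact absurd this (not_le.2 (Nat.pow_lt_pow_right hp.out.one_lt (by omega)))
    have hwp : (z ^ p ^ k) ^ p = 1 := by rw [← pow_mul, ← pow_succ, ← hk, pow_orderOf_eq_one]
    obtain ⟨B, hB, hzB⟩ := h.1.2 z
    obtain rfl := member_eq h hab hZ hA hB (k := 1) (by rw [pow_one]; exact hwp) hw1
      (homega _ ((P : Subgroup G).pow_mem hz _) hwp) (B.pow_mem hzB _)
    exact hzB

theorem mem_sylow_of_normalizes (P : Sylow p G) {u : G} {k : ℕ} (hu : u ^ p ^ k = 1)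
    (hn : u ∈ normalizer ((P : Subgroup G) : Set G)) : u ∈ (P : Subgroup G) := by
  obtain ⟨i, -, hi⟩ := (Nat.dvd_prime_pow hp.out).1 (orderOf_dvd_of_pow_eq_one hu)
  have hs := IsPGroup.to_sup_of_normal_right'
    (IsPGroup.of_card (n := i) (by rw [Nat.card_zpowers, hi]) : IsPGroup p (zpowers u))
    P.isPGroup' (zpowers_le.2 hn)
  have := P.is_maximal' hs le_sup_right
  rw [← this]
  exact mem_sup_left (mem_zpowers u)

theorem mem_normalizer_of_mem_centralizer {H : Subgroup G} {u : G}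
    (hu : u ∈ centralizer (H : Set G)) : u ∈ normalizer (H : Set G) := by
  rw [mem_normalizer_iff]
  intro z
  constructor
  · intro hz
    rwa [← mem_centralizer_iff.1 hu z hz, mul_inv_cancel_right]
  · intro hz
    have h2 := mem_centralizer_iff.1 hu _ hz
    have : z = u * z * u⁻¹ := by
      rw [mul_assoc (u * z), inv_mul_cancel, mul_one] at h2
      calc z = u⁻¹ * (u * z) := by group
        _ = u⁻¹ * (u * (u * z * u⁻¹)) := by rw [← h2]
        _ = _ := by group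
    rw [this]; exact hz

theorem centralizer_eq (h : IsMinNilCover 𝓐) (hab : AbSyl p G) (hZ : center G = ⊥)
    (P : Sylow p G) (hne : (P : Subgroup G) ≠ ⊥) {A : Subgroup G} (hA : A ∈ 𝓐)
    (hPA : (P : Subgroup G) ≤ A) : centralizer ((P : Subgroup G) : Set G) = A := by
  refine le_antisymm (fun y hy => ?_) (fun a ha => mem_centralizer_iff.2 fun z hz => ?_)
  · obtain ⟨e, m, hc, hu, hv, hgen⟩ := exists_parts (p := p) y
    apply hgen
    · exact hPA (mem_sylow_of_normalizes P hu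
        (mem_normalizer_of_mem_centralizer ((centralizer _).pow_mem hy m)))
    · obtain ⟨x, hxP, hx1⟩ := (bot_or_exists_ne_one (P : Subgroup G)).resolve_left hne
      obtain ⟨j, hj⟩ := P.isPGroup' ⟨x, hxP⟩
      have hj' : x ^ p ^ j = 1 := congrArg Subtype.val hj
      obtain ⟨B, hB, hxv⟩ := h.1.2 (x * y ^ p ^ e)
      have h1 : x ^ m ∈ B := by
        have := B.pow_mem hxv m
        rwa [(show Commute x (y ^ p ^ e) from
          (show Commute x y from mem_centralizer_iff.1 hy x hxP).pow_right _).mul_pow, hv,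
          mul_one] at this
      have h2 : x ∈ B := by
        obtain ⟨i, hi⟩ := exists_pow_eq_self_of_coprime (x := x) (n := m)
          ((hc.symm.pow_right j).coprime_dvd_right (orderOf_dvd_of_pow_eq_one hj'))
        rw [← hi]
        exact B.pow_mem h1 i
      obtain rfl := member_eq h hab hZ hA hB hj' hx1 (hPA hxP) h2
      have := A.mul_mem (A.inv_mem (hPA hxP)) hxv
      rwa [inv_mul_cancel_left] at this
  · obtain ⟨j, hj⟩ := P.isPGroup' ⟨z, hz⟩
    exact (nil_commute hab (h.2.2 A hA) (congrArg Subtype.val hj) (hPA hz) ha).symm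

theorem centralizer_mem (h : IsMinNilCover 𝓐) (hab : AbSyl p G) (hZ : center G = ⊥)
    (P : Sylow p G) (hne : (P : Subgroup G) ≠ ⊥)
    (hP : ¬ (Cfsg.IsElementaryAbelian p (P : Subgroup G) ∧ p < Nat.card ↥(P : Subgroup G))) :
    centralizer ((P : Subgroup G) : Set G) ∈ 𝓐 := by
  obtain ⟨A, hA, hPA⟩ := exists_member_ge h hab hZ P hne hP
  rw [centralizer_eq h hab hZ P hne hA hPA]
  exact hA

theorem hyp_conj (P Q : Sylow p G) {g : G}
    (hQ : (Q : Subgroup G) = (P : Subgroup G).map (MulAut.conj g).toMonoidHom)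
    (hne : (P : Subgroup G) ≠ ⊥)
    (hP : ¬ (Cfsg.IsElementaryAbelian p (P : Subgroup G) ∧ p < Nat.card ↥(P : Subgroup G))) :
    (Q : Subgroup G) ≠ ⊥ ∧
      ¬ (Cfsg.IsElementaryAbelian p (Q : Subgroup G) ∧ p < Nat.card ↥(Q : Subgroup G)) := by
  have hc : Nat.card ↥(Q : Subgroup G) = Nat.card ↥(P : Subgroup G) := by
    rw [hQ]; exact card_map_of_injective (MulAut.conj g).injective
  refine ⟨fun hb => hne ?_, fun hQe => hP ⟨⟨?_, fun a ha => ?_⟩, hc ▸ hQe.2⟩⟩
  · rw [← card_eq_one, ← hc, card_eq_one, hb]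
  · have hm : ∀ a ∈ (P : Subgroup G), MulAut.conj g a ∈ (Q : Subgroup G) := fun a ha => by
      rw [hQ]; exact mem_map_of_mem _ ha
    refine ⟨⟨fun a b => Subtype.ext ((MulAut.conj g).injective ?_)⟩⟩
    have := congrArg Subtype.val
      (hQe.1.1.is_comm.comm ⟨_, hm a a.2⟩ ⟨_, hm b b.2⟩)
    simpa [map_mul] using this
  · have : MulAut.conj g a ∈ (Q : Subgroup G) := by rw [hQ]; exact mem_map_of_mem _ ha
    have := hQe.1.2 _ this
    rw [← map_pow] at this
    exact (MulEquiv.map_eq_one_iff _).1 this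

theorem conj_centralizer_mem (h : IsMinNilCover 𝓐) (hab : AbSyl p G) (hZ : center G = ⊥)
    (P : Sylow p G) (hne : (P : Subgroup G) ≠ ⊥)
    (hP : ¬ (Cfsg.IsElementaryAbelian p (P : Subgroup G) ∧ p < Nat.card ↥(P : Subgroup G))) (g : G) :
    (centralizer ((P : Subgroup G) : Set G)).map (MulAut.conj g).toMonoidHom ∈ 𝓐 := by
  have hQ : ((g • P : Sylow p G) : Subgroup G) = (P : Subgroup G).map (MulAut.conj g).toMonoidHom :=
    rfl
  obtain ⟨h1, h2⟩ := hyp_conj P (g • P) hQ hne hP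
  have h3 := centralizer_mem h hab hZ (g • P) h1 h2
  rw [hQ] at h3
  convert h3 using 1
  ext z
  simp only [mem_map, mem_centralizer_iff, SetLike.mem_coe]
  constructor
  · rintro ⟨c, hc, rfl⟩ _ ⟨w, hw, rfl⟩
    rw [← map_mul, ← map_mul, hc w hw]
  · intro hz
    refine ⟨(MulAut.conj g).symm z, fun w hw => (MulAut.conj g).injective ?_,
      (MulAut.conj g).apply_symm_apply z⟩
    rw [map_mul, map_mul, MulEquiv.apply_symm_apply]
    exact hz _ ⟨w, hw, rfl⟩

theorem mem_normalizer_of_conj_eq (P : Sylow p G) {g : G}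
    (hg : (centralizer ((P : Subgroup G) : Set G)).map (MulAut.conj g).toMonoidHom =
      centralizer ((P : Subgroup G) : Set G))
    (hab : AbSyl p G) : g ∈ normalizer ((P : Subgroup G) : Set G) := by
  have hle : ∀ z ∈ (P : Subgroup G), g * z * g⁻¹ ∈ (P : Subgroup G) := fun z hz => by
    obtain ⟨j, hj⟩ := P.isPGroup' ⟨z, hz⟩
    refine mem_sylow_of_normalizes P (k := j) ?_ (mem_normalizer_of_mem_centralizer ?_)
    · rw [conj_pow, show z ^ p ^ j = 1 from congrArg Subtype.val hj]; group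
    · rw [← hg]
      exact ⟨z, mem_centralizer_iff.2 fun w hw => hab _ P.isPGroup' w hw z hz, rfl⟩
  rw [← inv_inv g]
  refine (normalizer _).inv_mem ?_
  rw [mem_normalizer_iff]
  intro z
  rw [inv_inv]
  have hmap : (P : Subgroup G).map (MulAut.conj g).toMonoidHom = (P : Subgroup G) :=
    eq_of_le_of_card_ge (by rintro _ ⟨z, hz, rfl⟩; exact hle z hz)
      (card_map_of_injective (MulAut.conj g).injective).ge
  constructor
  · intro hz
    obtain ⟨w, hw, rfl⟩ : z ∈ (P : Subgroup G).map (MulAut.conj g).toMonoidHom := by rwa [hmap]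
    simpa [mul_assoc] using SetLike.mem_coe.1 hw
  · intro hz
    have := hle _ hz
    simpa [mul_assoc] using this

theorem isCoatom_normalizer (h : IsMinNilCover 𝓐) (hab : AbSyl p G) (hZ : center G = ⊥)
    (P : Sylow p G) (hnn : ¬ (P : Subgroup G).Normal)
    (hP : ¬ (Cfsg.IsElementaryAbelian p (P : Subgroup G) ∧ p < Nat.card ↥(P : Subgroup G))) :
    ∀ M : Subgroup G, M ≠ ⊤ → centralizer ((P : Subgroup G) : Set G) ≤ M →
      M ≤ normalizer ((P : Subgroup G) : Set G) := by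
  intro M hM hCM g hg
  have hne : (P : Subgroup G) ≠ ⊥ := fun hb => hnn (hb ▸ inferInstance)
  refine mem_normalizer_of_conj_eq P ?_ hab
  refine member_unique h (conj_centralizer_mem h hab hZ P hne hP g)
    (centralizer_mem h hab hZ P hne hP) hM ?_ hCM
  rintro _ ⟨c, hc, rfl⟩
  exact M.mul_mem (M.mul_mem hg (hCM hc)) (M.inv_mem hg)

theorem no_cover {M : Subgroup G} (hM : M ≠ ⊤) {q : ℕ} [hq : Fact q.Prime] {x : G}
    (hx : x ^ q = 1) (hq2 : ¬ q ^ 2 ∣ Nat.card G)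
    (hC : ∀ g : G, g * x = x * g → g ∈ M) {m : G} (hm : m ∈ M)
    (hmx : (m * x * m⁻¹) * x ≠ x * (m * x * m⁻¹)) :
    ¬ ∃ 𝓐 : Finset (Subgroup G), IsMinNilCover 𝓐 := by
  rintro ⟨𝓐, h⟩
  have hab : AbSyl q G := fun S hS a ha b hb => by
    obtain ⟨n, hn⟩ := IsPGroup.iff_card.1 hS
    have hn2 : n < 2 := not_le.1 fun h2 =>
      hq2 ((pow_dvd_pow q h2).trans (hn ▸ S.card_subgroup_dvd_card))
    haveI : IsCyclic S := by
      interval_cases n
      · haveI : Subsingleton S := (Nat.card_eq_one_iff_unique.1 (by simpa using hn)).1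
        exact isCyclic_of_subsingleton
      · exact isCyclic_of_prime_card (by simpa using hn)
    letI := IsCyclic.commGroup (α := S)
    exact congrArg Subtype.val (mul_comm (⟨a, ha⟩ : S) ⟨b, hb⟩)
  obtain ⟨A, hA, hxA⟩ := h.1.2 x
  obtain ⟨B, hB, hxB⟩ := h.1.2 (m * x * m⁻¹)
  have hx' : (m * x * m⁻¹) ^ q ^ 1 = 1 := by rw [pow_one, conj_pow, hx]; group
  have hAB : A = B := member_unique h hA hB hM
    (fun a ha => hC a (nil_commute hab (h.2.2 A hA) (k := 1) (by rw [pow_one]; exact hx) hxA ha))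
    (fun b hb => by
      have h1 := nil_commute hab (h.2.2 B hB) hx' hxB hb
      have h2 : m⁻¹ * b * m ∈ M := hC _ (by
        calc m⁻¹ * b * m * x = m⁻¹ * (b * (m * x * m⁻¹)) * m := by group
          _ = m⁻¹ * ((m * x * m⁻¹) * b) * m := by rw [h1]
          _ = _ := by group)
      have := M.mul_mem (M.mul_mem hm h2) (M.inv_mem hm)
      simpa [mul_assoc] using this)
  subst hAB
  exact hmx (nil_commute hab (h.2.2 A hA) (k := 1) (by rw [pow_one]; exact hx) hxA hxB)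

end Cfsg.Agent.H73.NilCover
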