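import Mathlib
import Cfsg.Agent.H73.NilCover

/-! Alternating and symmetric groups have no nilpotent minimal cover. -/

set_option autoImplicit false
set_option linter.style.haveILetI false

namespace Cfsg.Agent.H73.NilCover

open Equiv Equiv.Perm

variable {n : ℕ}

/-- Permutations preserving `{0, …, q-1}`. -/
def lowStab (n q : ℕ) : Subgroup (Perm (Fin n)) where
  carrier := {g | ∀ j, (g j).val < q ↔ j.val < q}
  one_mem' := fun j => Iff.rfl
  mul_mem' := fun {a b} ha hb j => (ha (b j)).trans (hb j)
  inv_mem' := fun {a} ha j => by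
    have := ha (a⁻¹ j)
    rw [show a (a⁻¹ j) = j from Equiv.apply_symm_apply a j] at this
    exact this.symm

theorem not_sq_dvd_factorial {q : ℕ} (hq : q.Prime) : ∀ k < 2 * q, ¬ q ^ 2 ∣ k.factorial
  | 0, _ => fun h => by
    have := Nat.le_of_dvd one_pos (by simpa using h : q ^ 2 ∣ 1)
    nlinarith [hq.two_le]
  | k + 1, hk => fun h => by
    rw [Nat.factorial_succ] at h
    by_cases he : k + 1 = q
    · rw [he, sq] at h
      have h2 := Nat.dvd_of_mul_dvd_mul_left hq.pos h
      have := hq.dvd_factorial.1 h2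
      omega
    · have hnd : ¬ q ∣ k + 1 := by
        rintro ⟨c, hc⟩
        rcases Nat.lt_or_ge c 2 with hc2 | hc2
        · interval_cases c <;> omega
        · nlinarith
      exact not_sq_dvd_factorial hq k (by omega)
        (((hq.coprime_iff_not_dvd.2 hnd).pow_left 2).dvd_of_dvd_mul_left h)

theorem exists_large (hn : 6 ≤ n) : ∃ (q : ℕ) (x m c : Perm (Fin n)), q.Prime ∧
    x ^ q = 1 ∧ x ≠ 1 ∧ ¬ q ^ 2 ∣ n.factorial ∧
    (∀ g, g * x = x * g → g ∈ lowStab n q) ∧ m ∈ lowStab n q ∧
    (m * x * m⁻¹) * x ≠ x * (m * x * m⁻¹) ∧ sign x = 1 ∧ sign m = 1 ∧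
    c ∉ lowStab n q ∧ sign c = 1 := by
  obtain ⟨q, hq, h1, h2⟩ := Nat.exists_prime_lt_and_le_two_mul (n / 2) (by omega)
  have hqn : q < n := by
    rcases Nat.lt_or_ge q n with h | h
    · exact h
    · exfalso
      have : q = 2 * (n / 2) := by omega
      have := (Nat.prime_dvd_prime_iff_eq Nat.prime_two hq).1 ⟨n / 2, this⟩
      omega
  have hq5 : 5 ≤ q := by
    by_contra h
    have : q = 4 := by omega
    rw [this] at hq; norm_num at hq
  haveI : NeZero n := ⟨by omega⟩
  set i : Fin n := ⟨q - 1, by omega⟩ with hi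
  set x := Fin.cycleRange i with hxd
  have hlt : ∀ j : Fin n, j.val < q - 1 → (x j).val = j.val + 1 := fun j hj =>
    Fin.coe_cycleRange_of_lt (by simp [hi, Fin.lt_def]; omega)
  have hi0 : x i = 0 := Fin.cycleRange_self i
  have hmov : ∀ j : Fin n, j.val < q ↔ x j ≠ j := fun j => by
    constructor
    · intro hj he
      have := congrArg Fin.val he
      rcases Nat.lt_or_ge j.val (q - 1) with h | h
      · rw [hlt j h] at this; omega
      · have hji : j = i := Fin.ext (by simp [hi]; omega)
        rw [hji, hi0] at this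
        simp [hi] at this
        omega
    · intro hne
      by_contra hj
      exact hne (Fin.cycleRange_of_gt (by simp [hi, Fin.lt_def]; omega))
  have hine : i ≠ 0 := fun h => by
    have := congrArg Fin.val h
    simp [hi] at this
    omega
  let a : Fin n := ⟨0, by omega⟩
  let b : Fin n := ⟨1, by omega⟩
  let d : Fin n := ⟨2, by omega⟩
  set m := swap a b * swap b d with hmd
  refine ⟨q, x, m, swap a b * swap a ⟨q, hqn⟩, hq, ?_, ?_,
    not_sq_dvd_factorial hq n (by omega), ?_, ?_, ?_, ?_, ?_, ?_, ?_⟩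
  · have ho : orderOf x = q := by
      rw [← Equiv.Perm.lcm_cycleType, hxd, Fin.cycleType_cycleRange hine]
      simp [hi]; omega
    rw [← ho, pow_orderOf_eq_one]
  · intro h
    exact (hmov a).1 (show 0 < q by omega) (by rw [h]; rfl)
  · intro g hg j
    rw [hmov, hmov]
    have := DFunLike.congr_fun hg j
    simp only [Perm.mul_apply] at this
    rw [← this, not_iff_not, EmbeddingLike.apply_eq_iff_eq]
  · intro j
    simp only [hmd, Perm.mul_apply, swap_apply_def, a, b, d, Fin.ext_iff]
    split_ifs <;> simp_all <;> omega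
  · intro h
    have h0 := DFunLike.congr_fun h a
    simp only [Perm.mul_apply] at h0
    have xa : x a = b := Fin.ext (by rw [hlt a (show 0 < q - 1 by omega)])
    have xb : x b = d := Fin.ext (by rw [hlt b (show 1 < q - 1 by omega)])
    let e : Fin n := ⟨3, by omega⟩
    let f : Fin n := ⟨4, by omega⟩
    have xd : x d = e := Fin.ext (by rw [hlt d (show 2 < q - 1 by omega)])
    have xe : x e = f := Fin.ext (by rw [hlt e (show 3 < q - 1 by omega)])
    have mb : m⁻¹ b = a := by
      rw [Equiv.Perm.inv_eq_iff_eq]; simp [hmd, swap_apply_def, a, b, d, Fin.ext_iff]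
    have ma : m⁻¹ a = d := by
      rw [Equiv.Perm.inv_eq_iff_eq]; simp [hmd, swap_apply_def, a, b, d, Fin.ext_iff]
    have mb' : m b = d := by simp [hmd, swap_apply_def, a, b, d, Fin.ext_iff]
    have me : m e = e := by simp [hmd, swap_apply_def, a, b, d, e, Fin.ext_iff]
    rw [xa, mb, xa, mb', ma, xd, me, xe] at h0
    simp [d, f] at h0
  · rw [hxd, Fin.sign_cycleRange]
    have : Even (q - 1) := hq.even_sub_one (by omega)
    exact this.neg_one_pow
  · rw [hmd, Equiv.Perm.sign_mul, sign_swap (by simp [a, b]), sign_swap (by simp [b, d])]; rfl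
  · intro h
    have := (h a).2 (show 0 < q by omega)
    rw [Perm.mul_apply, swap_apply_left, swap_apply_of_ne_of_ne (by simp [a]; omega)
      (by simp [b]; omega)] at this
    simp at this
  · rw [Equiv.Perm.sign_mul, sign_swap (by simp [a, b]), sign_swap (by simp [a]; omega)]; rfl

theorem symmetric_no_cover (hn : 4 ≤ n) :
    ¬ ∃ 𝓐 : Finset (Subgroup (Perm (Fin n))), IsMinNilCover 𝓐 := by
  have hcard : Nat.card (Perm (Fin n)) = n.factorial := by rw [Nat.card_perm, Nat.card_fin]
  by_cases h6 : 6 ≤ n
  · obtain ⟨q, x, m, c, hq, hx, hx1, hq2, hC, hm, hmx, -, -, hc, -⟩ := exists_large h6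
    haveI := Fact.mk hq
    exact no_cover (M := lowStab n q) (fun h => hc (h ▸ Subgroup.mem_top c)) hx
      (by rwa [hcard]) hC hm hmx
  · obtain rfl | rfl : n = 4 ∨ n = 5 := by omega
    · haveI := Fact.mk Nat.prime_three
      refine no_cover (M := alternatingGroup (Fin 4)) (q := 3)
        (x := swap 0 1 * swap 1 2) (m := swap 0 1 * swap 2 3) ?_ (by decide)
        (by rw [hcard]; decide) ?_ ?_ (by decide)
      · intro h
        have := Equiv.Perm.mem_alternatingGroup.1
          (h ▸ Subgroup.mem_top (swap (0 : Fin 4) 1) : swap (0 : Fin 4) 1 ∈ alternatingGroup (Fin 4))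
        revert this; decide
      · simp only [Equiv.Perm.mem_alternatingGroup]; decide +kernel
      · simp only [Equiv.Perm.mem_alternatingGroup]; decide
    · haveI := Fact.mk Nat.prime_five
      refine no_cover (M := alternatingGroup (Fin 5)) (q := 5)
        (x := finRotate 5) (m := swap 0 1 * swap 1 2) ?_ (by decide +kernel)
        (by rw [hcard]; decide) ?_ ?_ (by decide +kernel)
      · intro h
        have := Equiv.Perm.mem_alternatingGroup.1
          (h ▸ Subgroup.mem_top (swap (0 : Fin 5) 1) : swap (0 : Fin 5) 1 ∈ alternatingGroup (Fin 5))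
        revert this; decide
      · simp only [Equiv.Perm.mem_alternatingGroup]; decide +kernel
      · simp only [Equiv.Perm.mem_alternatingGroup]; decide

theorem alternating_no_cover (hn : 5 ≤ n) :
    ¬ ∃ 𝓐 : Finset (Subgroup ↥(alternatingGroup (Fin n))), IsMinNilCover 𝓐 := by
  have hcard : Nat.card ↥(alternatingGroup (Fin n)) ∣ n.factorial := by
    have := Subgroup.card_subgroup_dvd_card (alternatingGroup (Fin n))
    rwa [Nat.card_perm, Nat.card_fin] at this
  by_cases h6 : 6 ≤ n
  · obtain ⟨q, x, m, c, hq, hx, hx1, hq2, hC, hm, hmx, sx, sm, hc, sc⟩ := exists_large h6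
    haveI := Fact.mk hq
    refine no_cover (M := (lowStab n q).subgroupOf _) (x := ⟨x, sx⟩) (m := ⟨m, sm⟩)
      (fun h => hc (h ▸ Subgroup.mem_top (⟨c, sc⟩ : alternatingGroup (Fin n)) :))
      (Subtype.ext hx) (fun h => hq2 (h.trans hcard))
      (fun g hg => hC g (congrArg Subtype.val hg)) hm (fun h => hmx (congrArg Subtype.val h))
  · obtain rfl : n = 5 := by omega
    haveI := Fact.mk Nat.prime_three
    refine no_cover (M := (MulAction.stabilizer (Perm (Fin 5)) (4 : Fin 5)).subgroupOf _) (q := 3)
      (x := ⟨swap 0 1 * swap 1 2, Equiv.Perm.mem_alternatingGroup.2 (by decide)⟩) (m := ⟨swap 0 1 * swap 2 3, Equiv.Perm.mem_alternatingGroup.2 (by decide)⟩)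
      ?_ (Subtype.ext (by decide +kernel))
      (fun h => absurd (h.trans hcard) (by decide)) ?_ ?_
      (fun h => absurd (congrArg Subtype.val h) (by decide +kernel))
    · intro h
      have := (h ▸ Subgroup.mem_top (⟨swap 0 4 * swap 0 1, Equiv.Perm.mem_alternatingGroup.2 (by decide)⟩ : alternatingGroup (Fin 5)) :)
      simp only [Subgroup.mem_subgroupOf, MulAction.mem_stabilizer_iff] at this
      revert this; decide
    · rintro ⟨g, hg⟩ h
      have h' : g * (swap 0 1 * swap 1 2) = (swap 0 1 * swap 1 2) * g := congrArg Subtype.val h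
      simp only [Subgroup.mem_subgroupOf, MulAction.mem_stabilizer_iff]
      have hk : ∀ g : Perm (Fin 5), sign g = 1 →
          g * (swap 0 1 * swap 1 2) = (swap 0 1 * swap 1 2) * g → g • (4 : Fin 5) = 4 := by
        decide +kernel
      exact hk g (Equiv.Perm.mem_alternatingGroup.1 hg) h'
    · simp only [Subgroup.mem_subgroupOf, MulAction.mem_stabilizer_iff]; decide

end Cfsg.Agent.H73.NilCover
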