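import Mathlib
import Cfsg.Agent.H73.ClassCount

/-! Lifting real elements of prime order modulo a normal subgroup of coprime order. -/

namespace Cfsg.Agent.H73

/-- If a real element of prime order `q` lives in a quotient by a normal subgroup of order prime to `q`,
then it lifts to a real element of order `q`. -/
theorem exists_real_lift {G : Type*} [Group G] [Finite G] (N : Subgroup G) [N.Normal] {q : ℕ}
    [Fact q.Prime] (hN : ¬ q ∣ Nat.card N) (x : G ⧸ N) (hx : orderOf x = q) (hreal : IsConj x x⁻¹) :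
    ∃ y : G, orderOf y = q ∧ IsConj y y⁻¹ := by
  classical
  set K := (Subgroup.zpowers x).comap (QuotientGroup.mk' N) with hK
  have hcardK : Nat.card K = q * Nat.card N := by
    have h2 := ((QuotientGroup.mk' N).domRestrict K).ker.index_mul_card
    rw [Subgroup.index_ker, MonoidHom.domRestrict_range, hK,
      Subgroup.map_comap_eq_self_of_surjective (QuotientGroup.mk'_surjective N), Nat.card_zpowers, hx,
      MonoidHom.ker_domRestrict, QuotientGroup.ker_mk',
      Nat.card_congr (Subgroup.subgroupOfEquivOfLe ?_).toEquiv] at h2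
    · rw [hK, ← h2]
    · intro z hz
      rw [Subgroup.mem_comap, QuotientGroup.mk'_apply, (QuotientGroup.eq_one_iff z).2 hz]
      exact one_mem _
  obtain ⟨y, hy⟩ := exists_prime_orderOf_dvd_card' (G := K) q (hcardK ▸ Dvd.intro _ rfl)
  have hyG : orderOf (y : G) = q := by rw [Subgroup.orderOf_coe]; exact hy
  set S := Subgroup.zpowers (y : G) with hS
  have hSK : S ≤ K := by rw [hS, Subgroup.zpowers_le]; exact y.2
  have hSp : IsPGroup q (S.subgroupOf K) :=
    (IsPGroup.of_card (n := 1) (by rw [hS, Nat.card_zpowers, hyG, pow_one] : Nat.card S = q ^ 1)).comap_of_injective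
      K.subtype K.subtype_injective
  have hSi : ¬ q ∣ (S.subgroupOf K).index := by
    have h1 := (S.subgroupOf K).index_mul_card
    rw [Nat.card_congr (Subgroup.subgroupOfEquivOfLe hSK).toEquiv, hS, Nat.card_zpowers, hyG, hcardK,
      Nat.mul_comm] at h1
    rwa [Nat.eq_of_mul_eq_mul_left (Fact.out : q.Prime).pos h1]
  let P : Sylow q K := hSp.toSylow hSi
  obtain ⟨g, hg⟩ := isConj_iff.1 hreal
  obtain ⟨g, rfl⟩ := QuotientGroup.mk_surjective g
  obtain ⟨w, hwx⟩ := y.2
  have hwx' : x ^ w = QuotientGroup.mk (y : G) := hwx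
  have hgw : (QuotientGroup.mk g : G ⧸ N) * x ^ w * (QuotientGroup.mk g)⁻¹ = (x ^ w)⁻¹ := by
    rw [← conj_zpow, hg, inv_zpow]
  have hgyK : g * (y : G) * g⁻¹ ∈ K := by
    show QuotientGroup.mk (g * (y : G) * g⁻¹) ∈ Subgroup.zpowers x
    rw [QuotientGroup.mk_mul, QuotientGroup.mk_mul,
      QuotientGroup.mk_inv, ← hwx', hgw]
    exact inv_mem (zpow_mem (Subgroup.mem_zpowers x) w)
  have hp2 : IsPGroup q (Subgroup.zpowers (⟨_, hgyK⟩ : K)) :=
    IsPGroup.of_card (n := 1) (by rw [Nat.card_zpowers, Subgroup.orderOf_mk, orderOf_conj_eq, hyG, pow_one])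
  obtain ⟨Q, hQ⟩ := hp2.exists_le_sylow
  obtain ⟨k, hk⟩ := MulAction.exists_smul_eq K Q P
  have h1 : k * (⟨_, hgyK⟩ : K) * k⁻¹ ∈ S.subgroupOf K := by
    show _ ∈ (P : Subgroup K)
    rw [← hk]
    exact Subgroup.mem_map_of_mem _ (hQ (Subgroup.mem_zpowers _))
  rw [Subgroup.mem_subgroupOf, hS] at h1
  obtain ⟨i, hi⟩ := h1
  simp only [Subgroup.coe_mul, Subgroup.coe_inv] at hi
  refine ⟨y, hyG, isConj_iff.2 ⟨(k : G) * g, ?_⟩⟩
  have hyN : (y : G) ∉ N := fun h =>
    hN (hyG ▸ Subgroup.orderOf_dvd_natCard _ h)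
  have hordq : orderOf (QuotientGroup.mk (y : G) : G ⧸ N) = q := by
    refine orderOf_eq_prime ?_ fun h => hyN ((QuotientGroup.eq_one_iff _).1 h)
    rw [← QuotientGroup.mk_pow, ← hyG, pow_orderOf_eq_one, QuotientGroup.mk_one]
  obtain ⟨j, hj⟩ := k.2
  have hj' : x ^ j = QuotientGroup.mk (k : G) := hj
  have e : (QuotientGroup.mk (y : G) : G ⧸ N) ^ i = (QuotientGroup.mk (y : G))⁻¹ := by
    rw [← QuotientGroup.mk_zpow, hi, QuotientGroup.mk_mul, QuotientGroup.mk_mul, QuotientGroup.mk_mul,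
      QuotientGroup.mk_mul, QuotientGroup.mk_inv, QuotientGroup.mk_inv, ← hj', ← hwx', hgw,
      ← zpow_neg, ← zpow_neg, ← zpow_add, ← zpow_add]
    congr 1; ring
  have e2 : (y : G) ^ i = (y : G)⁻¹ := by
    rw [← zpow_neg_one] at e ⊢
    rw [zpow_eq_zpow_iff_modEq, hordq] at e
    rw [zpow_eq_zpow_iff_modEq, hyG]
    exact e
  rw [← e2, hi]
  group

end Cfsg.Agent.H73
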