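import Mathlib

/-! Two-transitive groups of odd degree in which only the identity fixes three points: no minimal cover
consists of nilpotent subgroups, as soon as some element of odd prime order fixes two points. -/

namespace Cfsg.Agent.H73

open MulAction

theorem zassenhaus_no_nilpotent_min_cover {G Ω : Type*} [Group G] [Finite G] [MulAction G Ω] [Finite Ω]
    (h2 : ∀ a b c d : Ω, a ≠ b → c ≠ d → ∃ g : G, g • a = c ∧ g • b = d)
    (h3 : ∀ (g : G) (a b c : Ω), a ≠ b → b ≠ c → a ≠ c → g • a = a → g • b = b → g • c = c → g = 1)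
    (hodd : Odd (Nat.card Ω)) (h4 : 4 ≤ Nat.card Ω)
    (t : G) (r : ℕ) [hr : Fact r.Prime] (ht : orderOf t = r) (hr2 : r ≠ 2) (a₀ b₀ : Ω) (hab : a₀ ≠ b₀)
    (hta : t • a₀ = a₀) (htb : t • b₀ = b₀) :
    ¬ ∃ 𝓐 : Finset (Subgroup G), ((∀ A ∈ 𝓐, A ≠ ⊤) ∧ (∀ g : G, ∃ A ∈ 𝓐, g ∈ A)) ∧
      (∀ 𝓑 : Finset (Subgroup G), (∀ A ∈ 𝓑, A ≠ ⊤) ∧ (∀ g : G, ∃ A ∈ 𝓑, g ∈ A) → 𝓐.card ≤ 𝓑.card) ∧
      (∀ A ∈ 𝓐, Group.IsNilpotent ↥A) := by
  classical
  rintro ⟨𝓐, ⟨hproper, hcov⟩, hmin, hnil⟩
  haveI := Fintype.ofFinite Ω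
  have hrodd : Odd r := hr.out.odd_of_ne_two hr2
  have hr3 : 3 ≤ r := by have := hr.out.two_le; omega
  -- facts about fixed points
  have hfix : ∀ (z : G) (c d e : Ω), z ≠ 1 → c ≠ d → z • c = c → z • d = d → z • e = e → e = c ∨ e = d := by
    intro z c d e hz hcd hc hd he
    by_contra hne
    push Not at hne
    exact hz (h3 z c d e hcd hne.2.symm hne.1.symm hc hd he)
  have hperm : ∀ (z g : G) (c d : Ω), z ≠ 1 → c ≠ d → z • c = c → z • d = d →
      (g * z * g⁻¹) • c = c → (g * z * g⁻¹) • d = d →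
      (g • c = c ∧ g • d = d) ∨ (g • c = d ∧ g • d = c) := by
    intro z g c d hz hcd hc hd hgc hgd
    have hz' : g * z * g⁻¹ ≠ 1 := fun h => hz (conj_eq_one_iff.1 h)
    have e1 : (g * z * g⁻¹) • (g • c) = g • c := by rw [← mul_smul, inv_mul_cancel_right, mul_smul, hc]
    have e2 : (g * z * g⁻¹) • (g • d) = g • d := by rw [← mul_smul, inv_mul_cancel_right, mul_smul, hd]
    have hne : g • c ≠ g • d := fun h => hcd (MulAction.injective g h)
    rcases hfix _ c d _ hz' hcd hgc hgd e1 with h | h <;> rcases hfix _ c d _ hz' hcd hgc hgd e2 with h' | h'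
    · exact absurd (h.trans h'.symm) hne
    · exact Or.inl ⟨h, h'⟩
    · exact Or.inr ⟨h, h'⟩
    · exact absurd (h.trans h'.symm) hne
  have hsq : ∀ (w : G) (c d : Ω), Odd (orderOf w) → ((w • c = c ∧ w • d = d) ∨ (w • c = d ∧ w • d = c)) →
      w • c = c ∧ w • d = d := by
    intro w c d hw hwcd
    rcases hwcd with h | ⟨hc, hd⟩
    · exact h
    obtain ⟨k, hk⟩ := exists_pow_eq_self_of_coprime (show Nat.Coprime 2 (orderOf w) from hw.coprime_two_left)
    have h1 : w ^ 2 ∈ stabilizer G c := mem_stabilizer_iff.2 (by rw [pow_two, mul_smul, hc, hd])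
    have h2' : w ^ 2 ∈ stabilizer G d := mem_stabilizer_iff.2 (by rw [pow_two, mul_smul, hd, hc])
    exact ⟨hk ▸ mem_stabilizer_iff.1 (pow_mem h1 k), hk ▸ mem_stabilizer_iff.1 (pow_mem h2' k)⟩
  -- a nilpotent subgroup with an element of order r fixing c and d
  have key : ∀ A ∈ 𝓐, ∀ (t1 : G) (c d : Ω), t1 ∈ A → orderOf t1 = r → c ≠ d → t1 • c = c → t1 • d = d →
      ∃ z : G, z ≠ 1 ∧ z • c = c ∧ z • d = d ∧
        (∀ t2 ∈ A, orderOf t2 = r → Commute z t2) ∧ ∀ g ∈ A, g • c = c ∨ ∃ e : Ω, g • e = e := by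
    intro A hA t1 c d ht1A ht1 hcd hc hd
    haveI := hnil A hA
    set T : A := ⟨t1, ht1A⟩
    have hTp : IsPGroup r (Subgroup.zpowers T) :=
      IsPGroup.of_card (n := 1) (by rw [Nat.card_zpowers, Subgroup.orderOf_mk, ht1, pow_one])
    obtain ⟨R, hR⟩ := hTp.exists_le_sylow
    have hTR : T ∈ (R : Subgroup A) := hR (Subgroup.mem_zpowers T)
    haveI hRu : Subsingleton (Sylow r A) := by
      haveI := Sylow.unique_of_normal R (inferInstance : (R : Subgroup A).Normal)
      infer_instance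
    haveI : Nontrivial (R : Subgroup A) := ⟨⟨⟨T, hTR⟩, 1, fun h => by
      have : T = 1 := congrArg Subtype.val h
      have h0 := congrArg (fun x : A => orderOf (x : G)) this
      simp only [T, OneMemClass.coe_one, orderOf_one, ht1] at h0
      exact hr.out.ne_one h0⟩⟩
    obtain ⟨⟨z0, hz0c⟩, hz01⟩ := @exists_ne _ (R.isPGroup'.center_nontrivial) (1 : Subgroup.center (R : Subgroup A))
    have hz0ne : ((z0 : A) : G) ≠ 1 := fun h => hz01 (Subtype.ext (Subtype.ext (Subtype.ext h)))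
    have hcommR : ∀ y : A, y ∈ (R : Subgroup A) → Commute ((z0 : A) : G) y := fun y hy =>
      (congrArg (fun x : (R : Subgroup A) => ((x : A) : G)) (Subgroup.mem_center_iff.1 hz0c ⟨y, hy⟩)).symm
    have hzodd : Odd (orderOf ((z0 : A) : G)) := by
      obtain ⟨k, hk⟩ := IsPGroup.iff_orderOf.1 R.isPGroup' z0
      rw [Subgroup.orderOf_coe, Subgroup.orderOf_coe, hk]
      exact hrodd.pow
    have ht1ne : t1 ≠ 1 := fun h => hr.out.ne_one (by rw [← ht1, h, orderOf_one])
    have hzt : ((z0 : A) : G) * t1 * ((z0 : A) : G)⁻¹ = t1 := by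
      rw [(hcommR T hTR).eq, mul_inv_cancel_right]
    obtain ⟨hzc, hzd⟩ := hsq _ c d hzodd (hperm t1 _ c d ht1ne hcd hc hd (by rw [hzt, hc]) (by rw [hzt, hd]))
    refine ⟨(z0 : A), hz0ne, hzc, hzd, fun t2 ht2A ht2 => hcommR ⟨t2, ht2A⟩ ?_, fun g hg => ?_⟩
    · have hp2 : IsPGroup r (Subgroup.zpowers (⟨t2, ht2A⟩ : A)) :=
        IsPGroup.of_card (n := 1) (by rw [Nat.card_zpowers, Subgroup.orderOf_mk, ht2, pow_one])
      obtain ⟨R', hR'⟩ := hp2.exists_le_sylow
      exact Subsingleton.elim R' R ▸ hR' (Subgroup.mem_zpowers _)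
    · by_contra hnofix
      push Not at hnofix
      -- g permutes c and d
      have hconjR : (⟨g, hg⟩ : A) * (z0 : A) * (⟨g, hg⟩ : A)⁻¹ ∈ (R : Subgroup A) :=
        (inferInstance : (R : Subgroup A).Normal).conj_mem _ z0.2 _
      set z1 := g * ((z0 : A) : G) * g⁻¹
      have hz1T : Commute z1 t1 := by
        have hgi : g⁻¹ * t1 * g ∈ A := mul_mem (mul_mem (inv_mem hg) ht1A) hg
        have h' : Commute ((z0 : A) : G) (g⁻¹ * t1 * g) :=
          hcommR ⟨_, hgi⟩ (by
            have := (inferInstance : (R : Subgroup A).Normal).conj_mem T hTR (⟨g, hg⟩ : A)⁻¹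
            rw [inv_inv] at this
            exact this)
        have := h'.map (MulAut.conj g).toMonoidHom
        simpa [z1, mul_assoc] using this
      have hz1ne : z1 ≠ 1 := fun h => hz0ne (conj_eq_one_iff.1 h)
      have hz1odd : Odd (orderOf z1) := by
        show Odd (orderOf (g * ((z0 : A) : G) * g⁻¹))
        rw [show orderOf (g * ((z0 : A) : G) * g⁻¹) = orderOf ((z0 : A) : G) from
          MulEquiv.orderOf_eq (MulAut.conj g) _]
        exact hzodd
      have hz1t : z1 * t1 * z1⁻¹ = t1 := by rw [hz1T.eq, mul_inv_cancel_right]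
      obtain ⟨h1, h2'⟩ := hsq _ c d hz1odd (hperm t1 z1 c d ht1ne hcd hc hd (by rw [hz1t, hc]) (by rw [hz1t, hd]))
      rcases hperm _ g c d hz0ne hcd hzc hzd h1 h2' with h | ⟨hgc, hgd⟩
      · exact hnofix.1 h.1
      -- the 2-part of g
      set k := (orderOf g).factorization 2
      set m := orderOf g / 2 ^ k
      have hm : 2 ^ k * m = orderOf g := Nat.mul_div_cancel' (Nat.ordProj_dvd _ _)
      have hmodd : Odd m := by
        rw [← Nat.not_even_iff_odd, even_iff_two_dvd]
        exact Nat.not_dvd_ordCompl Nat.prime_two (orderOf_pos g).ne'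
      set s := g ^ m
      have hs2 : orderOf s ∣ 2 ^ k := orderOf_dvd_of_pow_eq_one (by
        rw [← pow_mul, Nat.mul_comm, hm, pow_orderOf_eq_one])
      have hsc : s • c = d := by
        obtain ⟨j, hj⟩ := hmodd
        have h2g : g ^ 2 ∈ stabilizer G c := mem_stabilizer_iff.2 (by rw [pow_two, mul_smul, hgc, hgd])
        show g ^ m • c = d
        rw [hj, pow_succ', mul_smul, pow_mul, mem_stabilizer_iff.1 (pow_mem h2g j), hgc]
      have hs1 : s ≠ 1 := fun h => hcd (by rw [← hsc, h, one_smul])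
      have hsd : s • d = c := by
        obtain ⟨j, hj⟩ := hmodd
        have h2g : g ^ 2 ∈ stabilizer G d := mem_stabilizer_iff.2 (by rw [pow_two, mul_smul, hgd, hgc])
        show g ^ m • d = c
        rw [hj, pow_succ', mul_smul, pow_mul, mem_stabilizer_iff.1 (pow_mem h2g j), hgd]
      -- it commutes with t1
      haveI : Fact (Nat.Prime 2) := ⟨Nat.prime_two⟩
      have hsA : s ∈ A := pow_mem hg m
      have hsp : IsPGroup 2 (Subgroup.zpowers (⟨s, hsA⟩ : A)) :=
        IsPGroup.of_card_dvd_pow (n := k) (by rw [Nat.card_zpowers, Subgroup.orderOf_mk]; exact hs2)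
      obtain ⟨Q, hQ⟩ := hsp.exists_le_sylow
      have hdis : Disjoint (Q : Subgroup A) (R : Subgroup A) :=
        IsPGroup.disjoint_of_ne 2 r (Ne.symm hr2) _ _ Q.isPGroup' R.isPGroup'
      have hst : Commute s t1 := congrArg Subtype.val (Subgroup.commute_of_normal_of_disjoint
        (Q : Subgroup A) (R : Subgroup A) inferInstance inferInstance hdis ⟨s, hsA⟩ T (hQ (Subgroup.mem_zpowers _)) hTR).eq
      -- it fixes a third point
      have hsG : IsPGroup 2 (Subgroup.zpowers s) :=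
        IsPGroup.of_card_dvd_pow (n := k) (by rw [Nat.card_zpowers]; exact hs2)
      obtain ⟨e, he⟩ := hsG.nonempty_fixed_point_of_prime_not_dvd_card Ω
        (fun h => (Nat.not_even_iff_odd.2 hodd) (even_iff_two_dvd.2 h))
      have hse : s • e = e := he ⟨s, Subgroup.mem_zpowers s⟩
      have hec : e ≠ c := fun h => hcd (by rw [← h, ← hse, h, hsc])
      have hed : e ≠ d := fun h => hcd (by rw [← h, ← hse, h, hsd])
      have hte : s • (t1 • e) = t1 • e := by rw [← mul_smul, hst.eq, mul_smul, hse]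
      have hte2 : s • (t1 • (t1 • e)) = t1 • (t1 • e) := by rw [← mul_smul, hst.eq, mul_smul, hte]
      have hne1 : t1 • e ≠ e := fun h => by
        rcases hfix t1 c d e ht1ne hcd hc hd h with h' | h'
        · exact hec h'
        · exact hed h'
      have hne2 : t1 • (t1 • e) ≠ e := fun h => by
        have ht2 : t1 ^ 2 ≠ 1 := fun h' => by
          have := orderOf_dvd_of_pow_eq_one h'
          rw [ht1] at this
          exact hr2 ((Nat.prime_dvd_prime_iff_eq hr.out Nat.prime_two).1 this)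
        rcases hfix (t1 ^ 2) c d e ht2 hcd (by rw [pow_two, mul_smul, hc, hc])
          (by rw [pow_two, mul_smul, hd, hd]) (by rw [pow_two, mul_smul, h]) with h' | h'
        · exact hec h'
        · exact hed h'
      exact hs1 (h3 s e (t1 • e) (t1 • (t1 • e)) hne1.symm
        (fun h => hne1 (MulAction.injective t1 h.symm)) hne2.symm hse hte hte2)
  -- one member for each unordered pair
  let P := {x : Finset Ω // x.card = 2}
  have hex : ∀ x : P, ∃ A ∈ 𝓐, ∃ t1 ∈ A, ∃ c d : Ω, c ≠ d ∧ x.1 = {c, d} ∧ orderOf t1 = r ∧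
      t1 • c = c ∧ t1 • d = d := by
    intro x
    obtain ⟨c, d, hcd, hx⟩ := Finset.card_eq_two.1 x.2
    obtain ⟨g, hgc, hgd⟩ := h2 a₀ b₀ c d hab hcd
    obtain ⟨A, hA, htA⟩ := hcov (g * t * g⁻¹)
    refine ⟨A, hA, _, htA, c, d, hcd, hx, ?_, ?_, ?_⟩
    · exact (MulEquiv.orderOf_eq (MulAut.conj g) t).trans ht
    · rw [← hgc, ← mul_smul, inv_mul_cancel_right, mul_smul, hta]
    · rw [← hgd, ← mul_smul, inv_mul_cancel_right, mul_smul, htb]
  choose F hF tF htF cF dF hcdF hxF hordF hcF hdF using hex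
  have hinj : Function.Injective F := by
    intro x y hxy
    obtain ⟨z, hz, hzc, hzd, hzcomm, -⟩ :=
      key (F x) (hF x) (tF x) (cF x) (dF x) (htF x) (hordF x) (hcdF x) (hcF x) (hdF x)
    have hcom := hzcomm (tF y) (hxy ▸ htF y) (hordF y)
    have hyodd : Odd (orderOf (tF y)) := by rw [hordF y]; exact hrodd
    have e : tF y * z * (tF y)⁻¹ = z := by rw [← hcom.eq, mul_inv_cancel_right]
    obtain ⟨h1, h2'⟩ := hsq (tF y) (cF x) (dF x) hyodd
      (hperm z (tF y) _ _ hz (hcdF x) hzc hzd (by rw [e, hzc]) (by rw [e, hzd]))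
    have hyne : tF y ≠ 1 := fun h => hr.out.ne_one (by rw [← hordF y, h, orderOf_one])
    have hc' := hfix (tF y) (cF y) (dF y) (cF x) hyne (hcdF y) (hcF y) (hdF y) h1
    have hd' := hfix (tF y) (cF y) (dF y) (dF x) hyne (hcdF y) (hcF y) (hdF y) h2'
    apply Subtype.ext
    rw [hxF x, hxF y]
    rcases hc' with h | h <;> rcases hd' with h' | h'
    · exact absurd (h.trans h'.symm) (hcdF x)
    · rw [h, h']
    · rw [h, h', Finset.pair_comm]
    · exact absurd (h.trans h'.symm) (hcdF x)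
  set I := Finset.univ.image F with hI
  set 𝓑 := (𝓐 \ I) ∪ Finset.univ.image (fun a : Ω => stabilizer G a) with hB
  have hle := hmin 𝓑 ⟨?_, ?_⟩
  · have hsub : I ⊆ 𝓐 := fun A hA => by
      obtain ⟨x, -, rfl⟩ := Finset.mem_image.1 hA
      exact hF x
    have hIc : I.card = (Fintype.card Ω).choose 2 := by
      rw [hI, Finset.card_image_of_injective _ hinj, Finset.card_univ]
      exact Fintype.card_finset_len 2
    have h1 : 𝓑.card ≤ (𝓐.card - I.card) + Fintype.card Ω := by
      refine (Finset.card_union_le _ _).trans (Nat.add_le_add (le_of_eq ?_) Finset.card_image_le)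
      exact Finset.card_sdiff_of_subset hsub
    have h2' := Finset.card_le_card hsub
    have h4' : 4 ≤ Fintype.card Ω := by rwa [← Nat.card_eq_fintype_card]
    have h3' : Fintype.card Ω < (Fintype.card Ω).choose 2 := by
      rw [Nat.choose_two_right, Nat.lt_div_iff_mul_lt' (Nat.even_mul_pred_self _).two_dvd]
      have : Fintype.card Ω * 3 ≤ Fintype.card Ω * (Fintype.card Ω - 1) := Nat.mul_le_mul_left _ (by omega)
      omega
    omega
  · intro A hA
    rcases Finset.mem_union.1 hA with h | h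
    · exact hproper A (Finset.mem_sdiff.1 h).1
    · obtain ⟨a, -, rfl⟩ := Finset.mem_image.1 h
      intro htop
      obtain ⟨b, hb⟩ : ∃ b, b ≠ a := by
        by_cases h0 : a₀ = a
        · exact ⟨b₀, fun hb => hab (h0.trans hb.symm)⟩
        · exact ⟨a₀, h0⟩
      obtain ⟨g, hg, -⟩ := h2 a b b a hb.symm hb
      exact hb (hg.symm.trans (mem_stabilizer_iff.1 (htop.ge (Subgroup.mem_top g))))
  · intro g
    obtain ⟨A, hA, hgA⟩ := hcov g
    by_cases hAI : A ∈ I
    · obtain ⟨x, -, rfl⟩ := Finset.mem_image.1 hAI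
      obtain ⟨z, -, -, -, -, hfixg⟩ :=
        key (F x) (hF x) (tF x) (cF x) (dF x) (htF x) (hordF x) (hcdF x) (hcF x) (hdF x)
      rcases hfixg g hgA with h | ⟨e, h⟩
      · exact ⟨stabilizer G (cF x), Finset.mem_union_right _ (Finset.mem_image_of_mem _ (Finset.mem_univ _)), h⟩
      · exact ⟨stabilizer G e, Finset.mem_union_right _ (Finset.mem_image_of_mem _ (Finset.mem_univ _)), h⟩
    · exact ⟨A, Finset.mem_union_left _ (Finset.mem_sdiff.2 ⟨hA, hAI⟩), hgA⟩

end Cfsg.Agent.H73
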